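import Cfsg.Agent.Lib.Fusion87.Supersoluble
import Mathlib.GroupTheory.FiniteAbelian.Basic

/-!
Finite abelian `p`-groups with pairwise distinct invariants.
-/

set_option autoImplicit false

namespace Cfsg.Agent.Lib.Fusion87

open Cfsg Cfsg.FusionSystem Cfsg.Agent.Lib.Fusion

/-- Every layer `℧_l ∩ Ω_1` is cyclic modulo `℧_{l+1}`. -/
def HasCyclicLayers (p : ℕ) (G : Type*) [CommGroup G] : Prop :=
  ∀ l : ℕ, ∃ z : G, z ^ p = 1 ∧ ∀ s : G, s ^ p ^ (l + 1) = 1 →
    ∃ (c : ℤ) (t : G), s ^ p ^ l = z ^ c * t ^ p ^ (l + 1)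

theorem HasCyclicLayers.of_equiv {p : ℕ} {G G' : Type*} [CommGroup G] [CommGroup G'] (e : G ≃* G')
    (h : HasCyclicLayers p G) : HasCyclicLayers p G' := by
  intro l
  obtain ⟨z, hz, hs⟩ := h l
  refine ⟨e z, by rw [← map_pow, hz, map_one], fun s hs' => ?_⟩
  obtain ⟨c, t, ht⟩ := hs (e.symm s) (by rw [← map_pow, hs', map_one])
  exact ⟨c, e t, by rw [← map_zpow, ← map_pow, ← map_mul, ← ht, map_pow, e.apply_symm_apply]⟩

/-- A product of cyclic groups of distinct `p`-power orders has cyclic layers. -/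
theorem hasCyclicLayers_pi {p : ℕ} [hp : Fact p.Prime] {ι : Type*} {C : ι → Type*}
    [∀ i, CommGroup (C i)] (hC : ∀ i, IsCyclic (C i)) (k : ι → ℕ)
    (hk : ∀ i, Nat.card (C i) = p ^ k i) (hinj : Function.Injective k) :
    HasCyclicLayers p (∀ i, C i) := by
  classical
  intro l
  choose g hg using fun i => (hC i).exists_generator
  have hord : ∀ i, orderOf (g i) = p ^ k i := fun i => by
    rw [orderOf_eq_card_of_forall_mem_zpowers (hg i), hk]
  have key : ∀ (i : ι) (w : C i), w ^ p ^ (l + 1) = 1 → k i ≠ l + 1 →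
      ∃ t : C i, w ^ p ^ l = t ^ p ^ (l + 1) := by
    intro i w hw hne
    obtain ⟨a, rfl⟩ := hg i w
    simp only at hw ⊢
    rcases lt_or_gt_of_ne hne with h | h
    · refine ⟨1, ?_⟩
      rw [one_pow, ← zpow_natCast, ← zpow_mul, mul_comm, zpow_mul, zpow_natCast,
        orderOf_dvd_iff_pow_eq_one.1 ((hord i).symm ▸ pow_dvd_pow p (Nat.lt_succ_iff.1 h)),
        one_zpow]
    · have hd : ((p : ℤ) ^ k i) ∣ a * (p : ℤ) ^ (l + 1) := by
        have := orderOf_dvd_iff_zpow_eq_one.2 (show g i ^ (a * (p : ℤ) ^ (l + 1)) = 1 by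
          rw [zpow_mul, ← Nat.cast_pow, zpow_natCast]; exact hw)
        rwa [hord, Nat.cast_pow] at this
      rw [show k i = 1 + (k i - (l + 2)) + (l + 1) by omega, pow_add,
        mul_dvd_mul_iff_right (pow_ne_zero _ (by exact_mod_cast hp.out.ne_zero)), pow_add] at hd
      obtain ⟨b, hb⟩ : (p : ℤ) ∣ a := by simpa using (dvd_mul_right ((p : ℤ) ^ 1) _).trans hd
      refine ⟨g i ^ b, ?_⟩
      rw [hb, ← zpow_natCast, ← zpow_mul, ← zpow_natCast, ← zpow_mul]
      push_cast
      ring_nf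
  by_cases hex : ∃ i, k i = l + 1
  · obtain ⟨i₀, hi₀⟩ := hex
    refine ⟨Pi.mulSingle i₀ (g i₀ ^ p ^ l), ?_, fun s hs => ?_⟩
    · rw [← Pi.mulSingle_pow, ← pow_mul, ← pow_succ, ← hi₀, ← hord, pow_orderOf_eq_one,
        Pi.mulSingle_one]
    obtain ⟨a, ha⟩ := hg i₀ (s i₀)
    simp only at ha
    have : ∀ i, ∃ t : C i, (s i) ^ p ^ l =
        ((Pi.mulSingle i₀ (g i₀ ^ p ^ l) : ∀ i, C i) ^ a) i * t ^ p ^ (l + 1) := by
      intro i
      rcases eq_or_ne i i₀ with rfl | hne
      · refine ⟨1, ?_⟩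
        rw [Pi.pow_apply, Pi.mulSingle_eq_same, one_pow, mul_one, ← ha, ← zpow_natCast,
          ← zpow_mul, ← zpow_natCast, ← zpow_mul, mul_comm]
      · obtain ⟨t, ht⟩ := key i (s i) (congrFun hs i) fun h => hne (hinj (h.trans hi₀.symm))
        exact ⟨t, by rw [Pi.pow_apply, Pi.mulSingle_eq_of_ne hne, one_zpow, one_mul, ht]⟩
    choose t ht using this
    exact ⟨a, t, funext ht⟩
  · refine ⟨1, one_pow _, fun s hs => ?_⟩
    have : ∀ i, ∃ t : C i, (s i) ^ p ^ l = t ^ p ^ (l + 1) := fun i =>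
      key i (s i) (congrFun hs i) fun h => hex ⟨i, h⟩
    choose t ht using this
    exact ⟨0, t, by rw [zpow_zero, one_mul]; exact funext ht⟩

/-- Either the invariants repeat or the layers are cyclic. -/
theorem hasCyclicLayers_or_repeated {G : Type*} [CommGroup G] [Finite G] {p : ℕ}
    [hp : Fact p.Prime] (hG : IsPGroup p G) :
    HasCyclicLayers p G ∨ ∃ (n : ℕ) (H : Type) (_ : CommGroup H), 0 < n ∧
      Nonempty (G ≃* (Multiplicative (ZMod (p ^ n)) × Multiplicative (ZMod (p ^ n))) × H) := by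
  classical
  obtain ⟨ι, _, n, hn, ⟨e⟩⟩ := CommGroup.equiv_prod_multiplicative_zmod_of_finite G
  obtain ⟨N, hN⟩ := IsPGroup.iff_card.1 hG
  have hpow : ∀ i, ∃ k, n i = p ^ k := fun i => by
    obtain ⟨k, -, hk⟩ := (Nat.dvd_prime_pow hp.out).1 (show n i ∣ p ^ N from hN ▸ by
      rw [Nat.card_congr e.toEquiv, Nat.card_pi]
      have hi : Nat.card (Multiplicative (ZMod (n i))) = n i := by
        rw [Nat.card_congr Multiplicative.toAdd, Nat.card_zmod]
      conv_lhs => rw [← hi]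
      exact Finset.dvd_prod_of_mem (fun j => Nat.card (Multiplicative (ZMod (n j))))
        (Finset.mem_univ i))
    exact ⟨k, hk⟩
  choose k hk using hpow
  by_cases hinj : Function.Injective k
  · exact Or.inl (HasCyclicLayers.of_equiv e.symm (hasCyclicLayers_pi (fun i => inferInstance) k
      (fun i => by rw [Nat.card_congr Multiplicative.toAdd, Nat.card_zmod, hk]) hinj))
  simp only [Function.Injective, not_forall] at hinj
  obtain ⟨i, j, hij, hne⟩ := hinj
  refine Or.inr ⟨k i, ∀ l : {l // l ≠ i ∧ l ≠ j}, Multiplicative (ZMod (n l)), inferInstance, ?_, ⟨?_⟩⟩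
  · rcases Nat.eq_zero_or_pos (k i) with h | h
    · have := hn i; rw [hk, h, pow_zero] at this; exact absurd this (lt_irrefl 1)
    · exact h
  · let ci : Multiplicative (ZMod (n i)) ≃* Multiplicative (ZMod (p ^ k i)) :=
      (ZMod.ringEquivCongr (hk i)).toAddEquiv.toMultiplicative
    let cj : Multiplicative (ZMod (n j)) ≃* Multiplicative (ZMod (p ^ k i)) :=
      (ZMod.ringEquivCongr ((hk j).trans (congrArg (p ^ ·) hij.symm))).toAddEquiv.toMultiplicative
    exact e.trans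
      { toFun := fun f => ((ci (f i), cj (f j)), fun l => f l)
        invFun := fun q l =>
          if hli : l = i then hli ▸ ci.symm q.1.1
          else if hlj : l = j then hlj ▸ cj.symm q.1.2
          else q.2 ⟨l, hli, hlj⟩
        left_inv := fun f => by
          funext l
          dsimp only
          split_ifs with h1 h2
          · subst h1; exact ci.symm_apply_apply _
          · subst h2; exact cj.symm_apply_apply _
          · rfl
        right_inv := fun q => by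
          refine Prod.ext (Prod.ext ?_ ?_) (funext fun l => ?_)
          · simp
          · simp [Ne.symm hne]
          · simp [l.2.1, l.2.2]
        map_mul' := fun f g => by simp [Prod.ext_iff, funext_iff] }

section Series

variable {G : Type*} [CommGroup G]

/-- `Ω_{k+1} ∩ (℧_l)^{p^{-k}}`. -/
def layerSub (p k l : ℕ) : Subgroup G where
  carrier := {x | x ^ p ^ (k + 1) = 1 ∧ ∃ t : G, t ^ p ^ l = x ^ p ^ k}
  one_mem' := ⟨one_pow _, 1, by simp⟩
  mul_mem' := fun {x y} ⟨hx, t, ht⟩ ⟨hy, u, hu⟩ =>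
    ⟨by rw [mul_pow, hx, hy, one_mul], t * u, by rw [mul_pow, mul_pow, ht, hu]⟩
  inv_mem' := fun {x} ⟨hx, t, ht⟩ => ⟨by rw [inv_pow, hx, inv_one], t⁻¹, by rw [inv_pow, inv_pow, ht]⟩

/-- A series invariant under all automorphisms. -/
theorem exists_charChain {p : ℕ} [hp : Fact p.Prime] [Finite G] (hG : IsPGroup p G)
    (h : HasCyclicLayers p G) :
    ∃ C : CyclicChain G, ∀ (a : MulAut G) (i : ℕ), ∀ y ∈ C.K i, a y ∈ C.K i := by
  obtain ⟨m, hm⟩ := IsPGroup.iff_card.1 hG
  have hexp : ∀ x : G, x ^ p ^ m = 1 := fun x => by rw [← hm]; exact pow_card_eq_one'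
  have hbig : ∀ j, m ≤ j → ∀ x : G, x ^ p ^ j = 1 := fun j hj x => by
    rw [← Nat.add_sub_cancel' hj, pow_add, pow_mul, hexp, one_pow]
  let K : ℕ → Subgroup G := fun i => layerSub p (i / (m + 1)) (m - i % (m + 1))
  have hsame : ∀ i, i % (m + 1) = m → K (i + 1) = K i := by
    intro i hi
    have h1 : (i + 1) / (m + 1) = i / (m + 1) + 1 :=
      Nat.succ_div_of_mod_eq_zero (by rw [Nat.add_mod, hi]; simp [Nat.mod_self])
    have h2 : (i + 1) % (m + 1) = 0 := by rw [Nat.add_mod, hi]; simp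
    ext x
    simp only [K, h1, h2, hi, Nat.sub_zero, Nat.sub_self]
    constructor
    · rintro ⟨-, t, ht⟩
      rw [hexp] at ht
      exact ⟨ht.symm, x ^ p ^ (i / (m + 1)), by simp⟩
    · rintro ⟨hx, -⟩
      exact ⟨by rw [pow_succ, pow_mul, hx, one_pow], 1, by rw [one_pow, hx]⟩
  have hdiff : ∀ i, i % (m + 1) ≠ m → ∃ k l, K i = layerSub p k (l + 1) ∧ K (i + 1) = layerSub p k l := by
    intro i hi
    have hlt : i % (m + 1) < m := lt_of_le_of_ne (Nat.lt_succ_iff.1 (Nat.mod_lt _ (by omega))) hi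
    refine ⟨i / (m + 1), m - i % (m + 1) - 1, ?_, ?_⟩
    · simp only [K]; rw [show m - i % (m + 1) - 1 + 1 = m - i % (m + 1) by omega]
    · obtain ⟨h1, h2⟩ : (i + 1) / (m + 1) = i / (m + 1) ∧ (i + 1) % (m + 1) = i % (m + 1) + 1 :=
        (Nat.div_mod_unique (by omega)).2
          ⟨by have := Nat.mod_add_div i (m + 1); omega, by omega⟩
      simp only [K, h1, h2, Nat.sub_add_eq]
  have hmono : ∀ k l, (layerSub p k (l + 1) : Subgroup G) ≤ layerSub p k l :=
    fun k l x ⟨hx, t, ht⟩ => ⟨hx, t ^ p, by rw [← pow_mul, ← pow_succ', ht]⟩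
  refine ⟨{
    n := m * (m + 1)
    K := K
    bot := ?_
    top := ?_
    le := fun i => ?_
    normal := fun i => inferInstance
    step := fun i => ?_ }, fun a i y hy => ?_⟩
  · refine (Subgroup.eq_bot_iff_forall _).2 fun x hx => ?_
    obtain ⟨-, t, ht⟩ := hx
    simpa [hexp] using ht.symm
  · refine (Subgroup.eq_top_iff' _).2 fun x => ?_
    refine ⟨hbig _ (by simp) x, 1, ?_⟩
    rw [one_pow, hbig _ (by simp) x]
  · by_cases hi : i % (m + 1) = m
    · exact (hsame i hi).ge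
    · obtain ⟨k, l, h1, h2⟩ := hdiff i hi
      rw [h1, h2]; exact hmono k l
  · by_cases hi : i % (m + 1) = m
    · exact ⟨1, Subgroup.one_mem _, fun y hy => ⟨0, by simpa using (hsame i hi).le hy⟩⟩
    obtain ⟨k, l, h1, h2⟩ := hdiff i hi
    rw [h1, h2]
    by_cases hall : ∀ x ∈ (layerSub p k l : Subgroup G), x ∈ layerSub p k (l + 1)
    · exact ⟨1, Subgroup.one_mem _, fun y hy => ⟨0, by simpa using hall y hy⟩⟩
    push Not at hall
    obtain ⟨x, hxm, hx⟩ := hall
    obtain ⟨z, hz, hs⟩ := h l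
    have dec : ∀ y ∈ (layerSub p k l : Subgroup G),
        ∃ (c : ℤ) (t : G), y ^ p ^ k = z ^ c * t ^ p ^ (l + 1) := by
      rintro y ⟨hy, t, ht⟩
      rw [← ht]
      exact hs t (by rw [pow_succ, pow_mul, ht, ← pow_mul, ← pow_succ, hy])
    obtain ⟨a, T, hT⟩ := dec x hxm
    have ha : ¬ (p : ℤ) ∣ a := by
      rintro ⟨b, rfl⟩
      rw [zpow_mul, zpow_natCast, hz, one_zpow, one_mul] at hT
      exact hx ⟨hxm.1, T, hT.symm⟩
    obtain ⟨u, v, huv⟩ := ((Nat.prime_iff_prime_int.1 hp.out).coprime_iff_not_dvd.2 ha)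
    refine ⟨x, hxm, fun y hy => ?_⟩
    obtain ⟨b, U, hU⟩ := dec y hy
    refine ⟨b * v, Subgroup.mul_mem _ (Subgroup.inv_mem _ ?_) hy |> fun hmem => ⟨hmem.1, ?_⟩⟩
    · exact Subgroup.zpow_mem _ hxm _
    refine ⟨(T ^ (b * v))⁻¹ * U, ?_⟩
    have hzz : z ^ (b * v * a) = z ^ b := by
      rw [show b * v * a = b + (p : ℤ) * (-(b * u)) by linear_combination b * huv, zpow_add,
        zpow_mul, zpow_natCast, hz, one_zpow, mul_one]
    have hcomm : ∀ (x : G) (c : ℤ) (j : ℕ), (x ^ c) ^ j = (x ^ j) ^ c := fun x c j => by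
      rw [← zpow_natCast, ← zpow_mul, mul_comm, zpow_mul, zpow_natCast]
    have hxp : (x ^ (b * v)) ^ p ^ k = z ^ b * (T ^ (b * v)) ^ p ^ (l + 1) := by
      rw [hcomm, hT, mul_zpow, ← zpow_mul, mul_comm a, hzz, ← hcomm]
    rw [mul_pow, inv_pow, mul_pow, inv_pow, hxp, hU, mul_inv_rev, mul_assoc, inv_mul_cancel_left]
  · obtain ⟨hy1, t, ht⟩ := hy
    exact ⟨by rw [← map_pow, hy1, map_one], a t, by rw [← map_pow, ← map_pow, ht]⟩

end Series

/-! ### Repeated invariants give a bad automorphism group -/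

theorem exists_bad_auts {p : ℕ} [hp : Fact p.Prime] {C H : Type*} [CommGroup C] [CommGroup H]
    (z : C) (hz : z ≠ 1) (hz2 : p ≠ 2 → z ≠ z⁻¹) :
    ∃ K : Subgroup (MulAut ((C × C) × H)), (Nat.card K).Coprime p ∧
      ¬ (IsMulCommutative K ∧ ∀ h ∈ K, h ^ (p - 1) = 1) := by
  rcases eq_or_ne p 2 with rfl | h2
  · let q : MulAut ((C × C) × H) :=
      { toFun := fun x => ((x.1.2, (x.1.1 * x.1.2)⁻¹), x.2)
        invFun := fun x => (((x.1.1 * x.1.2)⁻¹, x.1.1), x.2)
        left_inv := fun x => by simp [Prod.ext_iff, mul_comm]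
        right_inv := fun x => by simp [Prod.ext_iff, mul_comm]
        map_mul' := fun x y => by simp [Prod.ext_iff, mul_inv_rev, mul_comm, mul_left_comm, mul_assoc] }
    have hq3 : q ^ 3 = 1 := MulEquiv.ext fun x => by
      simp [q, pow_succ, MulAut.mul_apply, Prod.ext_iff, mul_comm]
    refine ⟨Subgroup.zpowers q, ?_, fun h => ?_⟩
    · rw [Nat.card_zpowers]
      exact Nat.Coprime.coprime_dvd_left (orderOf_dvd_of_pow_eq_one hq3) (by norm_num)
    · have h1 := congrArg (fun f : MulAut ((C × C) × H) => f ((z, 1), 1))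
        (h.2 q (Subgroup.mem_zpowers q))
      simp [q, Prod.ext_iff] at h1
      exact hz h1.1.symm
  · let σ : MulAut ((C × C) × H) :=
      { toFun := fun x => ((x.1.2, x.1.1), x.2)
        invFun := fun x => ((x.1.2, x.1.1), x.2)
        left_inv := fun x => rfl
        right_inv := fun x => rfl
        map_mul' := fun x y => rfl }
    let r : MulAut ((C × C) × H) :=
      { toFun := fun x => ((x.1.2⁻¹, x.1.1), x.2)
        invFun := fun x => ((x.1.2, x.1.1⁻¹), x.2)
        left_inv := fun x => by simp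
        right_inv := fun x => by simp
        map_mul' := fun x y => by simp [Prod.ext_iff, mul_inv_rev, mul_comm] }
    have hσ : σ ^ 2 = 1 := MulEquiv.ext fun x => by simp [σ, pow_succ, MulAut.mul_apply]
    have hr : r ^ 4 = 1 := MulEquiv.ext fun x => by simp [r, pow_succ, MulAut.mul_apply]
    have hσr : σ * r * σ⁻¹ = r⁻¹ := by
      rw [inv_eq_of_mul_eq_one_left (by rw [← pow_two]; exact hσ : σ * σ = 1)]
      exact MulEquiv.ext fun x => by
        show _ = r.symm x
        simp [σ, r, MulAut.mul_apply]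
    have hnorm : Subgroup.zpowers σ ≤ Subgroup.normalizer (Subgroup.zpowers r : Set _) := by
      rw [Subgroup.zpowers_le, Subgroup.mem_normalizer_iff]
      intro f
      have key : ∀ g, g ∈ Subgroup.zpowers r → σ * g * σ⁻¹ ∈ Subgroup.zpowers r := by
        rintro _ ⟨k, rfl⟩
        exact ⟨-k, by simp only; rw [← conj_zpow, hσr, inv_zpow, zpow_neg]⟩
      refine ⟨key f, fun hf => ?_⟩
      have := key _ hf
      rwa [show σ * (σ * f * σ⁻¹) * σ⁻¹ = σ ^ 2 * f * (σ ^ 2)⁻¹ by rw [pow_two]; group, hσ, one_mul, inv_one,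
        mul_one] at this
    have h2p : ∀ (g : MulAut ((C × C) × H)) (j : ℕ), g ^ 2 ^ j = 1 → IsPGroup 2 (Subgroup.zpowers g) :=
      fun g j hj => by
        rintro ⟨_, k, rfl⟩
        exact ⟨j, Subtype.ext (by
          show (g ^ k) ^ 2 ^ j = 1
          rw [← zpow_natCast, ← zpow_mul, mul_comm, zpow_mul, zpow_natCast, hj, one_zpow])⟩
    have hK := IsPGroup.to_sup_of_normal_right' (h2p σ 1 hσ) (h2p r 2 hr) hnorm
    haveI : Finite ↥(Subgroup.zpowers σ ⊔ Subgroup.zpowers r) := by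
      haveI : Finite (Subgroup.zpowers σ) :=
        (isOfFinOrder_iff_pow_eq_one.2 ⟨2, by norm_num, hσ⟩).finite_zpowers.to_subtype
      haveI : Finite (Subgroup.zpowers r) :=
        (isOfFinOrder_iff_pow_eq_one.2 ⟨4, by norm_num, hr⟩).finite_zpowers.to_subtype
      have := (Subgroup.zpowers σ : Set (MulAut ((C × C) × H))).toFinite.mul
        (Subgroup.zpowers r : Set (MulAut ((C × C) × H))).toFinite
      rw [← Subgroup.coe_mul_of_left_le_normalizer_right _ _ hnorm] at this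
      exact this.to_subtype
    refine ⟨Subgroup.zpowers σ ⊔ Subgroup.zpowers r, ?_, fun h => ?_⟩
    · obtain ⟨k, hk⟩ := IsPGroup.iff_card.1 hK
      rw [hk]
      exact Nat.Coprime.pow_left _ ((Nat.coprime_primes Nat.prime_two hp.out).2 (Ne.symm h2))
    · have h1 := congrArg (fun f : ↥(Subgroup.zpowers σ ⊔ Subgroup.zpowers r) =>
        (f : MulAut ((C × C) × H)) ((z, 1), 1))
        (h.1.is_comm.comm ⟨σ, Subgroup.mem_sup_left (Subgroup.mem_zpowers σ)⟩
          ⟨r, Subgroup.mem_sup_right (Subgroup.mem_zpowers r)⟩)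
      simp [σ, r, MulAut.mul_apply] at h1
      exact hz2 h2 h1

end Cfsg.Agent.Lib.Fusion87
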