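import Cfsg.Agent.Lib.Fusion.GlaubermanJ
import Cfsg.Agent.S5193

/-!
For odd `p` the centre of a saturated fusion system is a direct factor of `Z(S)`.
-/

set_option autoImplicit false
set_option linter.style.haveILetI false

namespace Cfsg.Agent.Lib.Fusion87

open Cfsg Cfsg.FusionSystem Cfsg.Agent.Lib.Fusion

/-- Averaging over a Sylow subgroup: the fixed points are a direct factor. -/
theorem exists_complement_fixed {M : Type*} [CommGroup M] [Finite M] {p : ℕ} [Fact p.Prime]
    (hM : IsPGroup p M) {H : Type*} [Group H] [Finite H] (act : H →* MulAut M) (R : Sylow p H) :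
    ∃ K : Subgroup M, (∀ k ∈ K, ∀ r ∈ (R : Subgroup H), act r k = k) ∧
      (∀ m ∈ K, (∀ h : H, act h m = m) → m = 1) ∧
      ∀ a : M, (∀ r ∈ (R : Subgroup H), act r a = a) →
        ∃ c k : M, (∀ h : H, act h c = c) ∧ k ∈ K ∧ c * k = a := by
  classical
  haveI : Fintype (H ⧸ (R : Subgroup H)) := Fintype.ofFinite _
  let τ : M →* M := ∏ q : H ⧸ (R : Subgroup H), (act q.out).toMonoidHom
  have hτ : ∀ m, τ m = ∏ q : H ⧸ (R : Subgroup H), act q.out m := fun m => by
    simp [τ, MonoidHom.finset_prod_apply]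
  let A : Subgroup M :=
    { carrier := {m | ∀ r ∈ (R : Subgroup H), act r m = m}
      one_mem' := fun r _ => map_one _
      mul_mem' := fun ha hb r hr => by rw [map_mul, ha r hr, hb r hr]
      inv_mem' := fun ha r hr => by rw [map_inv, ha r hr] }
  refine ⟨A ⊓ τ.ker, fun k hk => hk.1, fun m hm hfix => ?_, fun a ha => ?_⟩
  · have h1 : τ m = m ^ (R : Subgroup H).index := by
      rw [hτ, Finset.prod_congr rfl (fun q _ => hfix q.out), Finset.prod_const, Finset.card_univ,
        Subgroup.index_eq_card, Nat.card_eq_fintype_card]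
    rw [hm.2] at h1
    obtain ⟨k, hk⟩ := hM m
    exact orderOf_eq_one_iff.1 (Nat.eq_one_of_dvd_coprimes
      (((Fact.out : p.Prime).coprime_iff_not_dvd.2 R.not_dvd_index).pow_left k)
      (orderOf_dvd_of_pow_eq_one hk) (orderOf_dvd_of_pow_eq_one h1.symm))
  · have hinv : ∀ h : H, act h (τ a) = τ a := by
      intro h
      rw [hτ, map_prod]
      refine Fintype.prod_equiv (MulAction.toPerm h) _ _ fun q => ?_
      have hq : (((h * q.out : H)) : H ⧸ (R : Subgroup H)) = h • q := by
        conv_rhs => rw [← QuotientGroup.out_eq' q]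
        rfl
      have hr : (h * q.out)⁻¹ * (h • q).out ∈ (R : Subgroup H) := by
        rw [← QuotientGroup.eq, hq]; exact (QuotientGroup.out_eq' _).symm
      show act h (act q.out a) = act (h • q).out a
      conv_rhs => rw [← mul_inv_cancel_left (h * q.out) (h • q).out, map_mul, MulAut.mul_apply,
        ha _ hr]
      rw [map_mul, MulAut.mul_apply]
    -- invert the index
    obtain ⟨e, he'⟩ := IsPGroup.iff_card.1 hM
    have he : ∀ x : M, x ^ p ^ e = 1 := fun x => by rw [← he', pow_card_eq_one']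
    have hcop : (R : Subgroup H).index.Coprime (p ^ e) :=
      (((Fact.out : p.Prime).coprime_iff_not_dvd.2 R.not_dvd_index).symm).pow_right e
    set u := Nat.gcdA (R : Subgroup H).index (p ^ e)
    have hu : ∀ x : M, (x ^ u) ^ (R : Subgroup H).index = x := by
      intro x
      have hx : x ^ p ^ e = 1 := he x
      have hb := Nat.gcd_eq_gcd_ab (R : Subgroup H).index (p ^ e)
      rw [hcop, Nat.cast_one] at hb
      calc (x ^ u) ^ (R : Subgroup H).index
          = x ^ ((((R : Subgroup H).index : ℤ)) * u +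
              ((p ^ e : ℕ) : ℤ) * Nat.gcdB (R : Subgroup H).index (p ^ e)) := by
            rw [zpow_add, zpow_mul, zpow_mul, zpow_natCast, zpow_natCast, hx, one_zpow, mul_one,
              ← zpow_natCast (x ^ u), ← zpow_mul, ← zpow_natCast x, ← zpow_mul, mul_comm]
        _ = x := by rw [← hb, zpow_one]
    refine ⟨τ a ^ u, (τ a ^ u)⁻¹ * a, fun h => by rw [map_zpow, hinv], ⟨fun r hr => ?_, ?_⟩,
      mul_inv_cancel_left _ _⟩
    · rw [map_mul, map_inv, map_zpow, hinv, ha r hr]
    · have hc : τ (τ a ^ u) = (τ a ^ u) ^ (R : Subgroup H).index := by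
        rw [hτ, Finset.prod_congr rfl (fun q _ => (map_zpow (act q.out) _ u).trans (by rw [hinv])),
          Finset.prod_const, Finset.card_univ, Subgroup.index_eq_card, Nat.card_eq_fintype_card]
      show τ ((τ a ^ u)⁻¹ * a) = 1
      rw [map_mul, map_inv, hc, hu, inv_mul_cancel]

variable {Ω : Type*} [Group Ω] {S : Subgroup Ω} {F : FusionSystem S}

open scoped IsMulCommutative in
/-- The centre of a saturated system over a finite `p`-group, `p` odd, is a direct factor of `Z(S)`. -/
theorem exists_complement_center [Finite S] {p : ℕ} [Fact p.Prime] (hp : p ≠ 2) (hS : IsPGroup p S)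
    (hF : F.IsSaturated p) :
    ∃ K : Subgroup Ω, K ≤ S ⊓ Subgroup.centralizer (S : Set Ω) ∧ F.center ⊓ K = ⊥ ∧
      F.center ⊔ K = S ⊓ Subgroup.centralizer (S : Set Ω) := by
  set J := thompsonSubgroupAOf S
  have hJS : J ≤ S := thompsonSubgroupAOf_le S
  haveI : Finite J := finite_of_le hJS
  have hJn : normalizerIn S J = S :=
    normalizerIn_eq_self_of_characteristic hJS (thompsonSubgroupAOf_characteristic S)
  obtain ⟨N, hN⟩ := exists_normalizerSystem F hJS
  have hZJ : S ⊓ Subgroup.centralizer (S : Set Ω) ≤ J := fun z hz =>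
    centralizerIn_thompsonSubgroupAOf_le S ⟨hz.1, fun x hx => hz.2 x (hJS hx)⟩
  have hcen : N.center = F.center := (Cfsg.Agent.S5193.result p hS F hF N hN).2 (Or.inl hp)
  obtain ⟨-, R, hR⟩ := isFullyAutomized_of_isFullyNormalized hS hF
    (isFullyNormalized_of_normalizerIn_eq hJS hJn)
  -- elements fixed by all of `Aut_F(J)` are central
  have hfix : ∀ (z : Ω) (hzJ : z ∈ J), z ∈ S ⊓ Subgroup.centralizer (S : Set Ω) →
      (∀ α ∈ F.autGroup J, (α ⟨z, hzJ⟩ : Ω) = z) → z ∈ F.center := by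
    intro z hzJ hz hα
    rw [← hcen]
    refine le_sSup (α := Subgroup Ω) ?_ (Subgroup.mem_zpowers z)
    refine ⟨Subgroup.zpowers_le.2 (by rw [hJn]; exact hz.1), fun P φ hφ => ?_⟩
    rw [hN P] at hφ
    obtain ⟨hφF, hPn, hφn, ψ, hψ, hψe, hψJ⟩ := hφ
    have hval : ∀ x : J, ψ (Subgroup.inclusion le_sup_right x) ∈ J := fun x =>
      hψJ.le ⟨Subgroup.inclusion le_sup_right x, x.2, rfl⟩
    obtain ⟨α, hαm, hαx⟩ := exists_aut_of_hom (restrict_mem hψ le_sup_right) hval
    have hψz : ψ ⟨z, Subgroup.mem_sup_right hzJ⟩ = z :=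
      (hαx ⟨z, hzJ⟩).symm.trans (hα α hαm)
    have hle : P ⊔ Subgroup.zpowers z ≤ P ⊔ J := sup_le_sup_left (Subgroup.zpowers_le.2 hzJ) P
    refine ⟨ψ.comp (Subgroup.inclusion hle), ?_, fun x => hψe x, fun x => ?_⟩
    · rw [hN]
      refine ⟨restrict_mem hψ hle, ?_, fun x => ?_, ?_⟩
      · rw [hJn]
        exact sup_le (hJn ▸ hPn) (Subgroup.zpowers_le.2 hz.1)
      · rw [hJn]
        exact val_mem (restrict_mem hψ hle) x
      · have hle2 : P ⊔ Subgroup.zpowers z ⊔ J ≤ P ⊔ J := sup_le hle le_sup_right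
        refine ⟨ψ.comp (Subgroup.inclusion hle2), restrict_mem hψ hle2, fun x => rfl, ?_⟩
        refine le_antisymm ?_ fun y hy => ?_
        · rintro _ ⟨x, hx, rfl⟩
          exact hψJ.le ⟨Subgroup.inclusion hle2 x, hx, rfl⟩
        · obtain ⟨x, hx, rfl⟩ := hψJ.ge hy
          exact ⟨⟨x, Subgroup.mem_sup_right hx⟩, hx, congrArg ψ (Subtype.ext rfl)⟩
    · obtain ⟨x, k, rfl⟩ := x
      show ψ ⟨z ^ k, _⟩ = z ^ k
      have hk : ψ (⟨z, Subgroup.mem_sup_right hzJ⟩ ^ k) = z ^ k := by rw [map_zpow, hψz]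
      exact (congrArg ψ (Subtype.ext (by simp))).trans hk
  -- the action on `Z(J)`
  let act : F.autGroup J →* MulAut (Subgroup.center J) :=
    { toFun := fun α => Subgroup.centerCongr (α : MulAut J)
      map_one' := MulEquiv.ext fun x => Subtype.ext rfl
      map_mul' := fun a b => MulEquiv.ext fun x => Subtype.ext rfl }
  haveI : Finite (MulAut J) := finite_mulAut hJS
  have hAc : ∀ a : Subgroup.center J,
      (∀ r ∈ (R : Subgroup (F.autGroup J)), act r a = a) ↔
        ((a : J) : Ω) ∈ S ⊓ Subgroup.centralizer (S : Set Ω) := by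
    intro a
    constructor
    · intro h
      refine ⟨hJS (a : J).2, fun s hs => ?_⟩
      have hsN : s ∈ Subgroup.normalizer (J : Set Ω) := (hJn.ge hs).2
      set σ := Subgroup.normalizerMonoidHom J ⟨s, hsN⟩
      have hσS : σ ∈ autInducedBy S J := mem_autInducedBy.2 ⟨s, hs, fun x => rfl⟩
      have hσ : σ ∈ F.autGroup J := autInducedBy_le_autGroup hJS hσS
      have h' := congrArg (fun x : Subgroup.center J => ((x : J) : Ω))
        (h ⟨σ, hσ⟩ (by rw [hR]; exact hσS))
      exact mul_inv_eq_iff_eq_mul.1 h'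
    · intro ha r hr
      rw [hR] at hr
      obtain ⟨s, hs, hsx⟩ := mem_autInducedBy.1 hr
      refine Subtype.ext (Subtype.ext ?_)
      show ((r : MulAut J) (a : J) : Ω) = _
      refine (hsx _).trans ?_
      rw [ha.2 s hs, mul_inv_cancel_right]
  obtain ⟨K, hK1, hK2, hK3⟩ :=
    exists_complement_fixed ((hS.to_le hJS).to_subgroup _) act R
  have hfin := FusionFactor.isCentral_center F
  refine ⟨K.map (J.subtype.comp (Subgroup.center J).subtype), ?_, ?_, ?_⟩
  · rintro _ ⟨k, hk, rfl⟩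
    exact (hAc k).1 (hK1 k hk)
  · refine le_bot_iff.1 ?_
    rintro _ ⟨hc, k, hk, rfl⟩
    rw [Subgroup.mem_bot, hK2 k hk fun α => Subtype.ext (Subtype.ext
      (apply_of_isCentral hfin (autGroup_hom_mem hJS α.2) hc (k : J).2))]
    rfl
  · refine le_antisymm (sup_le (fun z hz => mem_center_of_mem_center hz) ?_) fun z hz => ?_
    · rintro _ ⟨k, hk, rfl⟩
      exact (hAc k).1 (hK1 k hk)
    · have hzc : (⟨z, hZJ hz⟩ : J) ∈ Subgroup.center J := Subgroup.mem_center_iff.2 fun x =>
        Subtype.ext (hz.2 x (hJS x.2))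
      obtain ⟨c, k, hc, hk, hck⟩ := hK3 ⟨_, hzc⟩ ((hAc _).2 hz)
      have e : z = ((c : J) : Ω) * ((k : J) : Ω) :=
        (congrArg (fun x : Subgroup.center J => ((x : J) : Ω)) hck).symm
      rw [e]
      refine Subgroup.mul_mem_sup (hfix _ (c : J).2 ((hAc c).1 fun r _ => hc r) fun α hα => ?_)
        ⟨k, hk, rfl⟩
      exact congrArg (fun x : Subgroup.center J => ((x : J) : Ω)) (hc ⟨α, hα⟩)

end Cfsg.Agent.Lib.Fusion87
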