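import Cfsg.Agent.Lib.Fusion87.EssentialElementaryMain

/-!
Conclusion: no elementary abelian subgroup of order `p ^ 3` is essential over a `p`-group of
maximal class of order at least `p ^ 5`, `p` odd.
-/

set_option autoImplicit false

namespace Cfsg.Agent.Lib.Fusion87

open Cfsg Cfsg.FusionSystem Cfsg.Agent.Lib.Fusion Cfsg.Agent.Lib.H66.MaxClass
open scoped commutatorElement

universe u

variable {Ω : Type u} [Group Ω] {S : Subgroup Ω} {F : FusionSystem S} {p : ℕ} [hp : Fact p.Prime]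
  {n : ℕ} [Finite S]

/-- The automorphisms of `Q` acting trivially on the factors of `1 < Z < W < Q`. -/
def flagStab {G : Type*} [Group G] (W Z : Subgroup G) (hZW : Z ≤ W) : Subgroup (MulAut G) where
  carrier := {a | a ∈ cosetStab W ∧ (∀ w ∈ W, w⁻¹ * a w ∈ Z) ∧ ∀ z ∈ Z, a z = z}
  one_mem' := ⟨(cosetStab W).one_mem, fun w _ => by simp, fun z _ => rfl⟩
  mul_mem' := by
    rintro a b ⟨ha, ha2, ha3⟩ ⟨hb, hb2, hb3⟩
    refine ⟨(cosetStab W).mul_mem ha hb, fun w hw => ?_,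
      fun z hz => by rw [MulAut.mul_apply, hb3 z hz, ha3 z hz]⟩
    have hbw : b w ∈ W := by
      have := W.mul_mem hw (hZW (hb2 w hw))
      rwa [mul_inv_cancel_left] at this
    have e : w⁻¹ * (a * b) w = (w⁻¹ * b w) * ((b w)⁻¹ * a (b w)) := by
      rw [MulAut.mul_apply]; group
    rw [e]; exact Z.mul_mem (hb2 w hw) (ha2 _ hbw)
  inv_mem' := by
    rintro a ⟨ha, ha2, ha3⟩
    have h3 : ∀ z ∈ Z, a⁻¹ z = z := fun z hz => by
      conv_lhs => rw [← ha3 z hz]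
      rw [MulAut.inv_apply_self]
    refine ⟨(cosetStab W).inv_mem ha, fun w hw => ?_, h3⟩
    have h := ha2 (a⁻¹ w) (ha.2 w hw)
    rw [MulAut.apply_inv_self] at h
    have := Z.inv_mem h
    rwa [mul_inv_rev, inv_inv] at this

omit [Finite S] in
theorem isPGroup_flagStab {G : Type*} [Group G] [Finite G] (hG : IsPGroup p G) {W Z : Subgroup G}
    (hZW : Z ≤ W) : IsPGroup p (flagStab W Z hZW) := by
  haveI : Finite (MulAut G) := Finite.of_injective (fun a : MulAut G => (a : G → G)) DFunLike.coe_injective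
  refine isPGroup_of_coprime_trivial fun a ha => Subtype.ext (MulEquiv.ext fun x => ?_)
  obtain ⟨⟨ha1, -⟩, ha2, ha3⟩ := a.2
  have hc : (orderOf (a : MulAut G)).Coprime p := by rwa [Subgroup.orderOf_coe]
  have hW : ∀ w ∈ W, (a : MulAut G) w = w := fun w hw =>
    fix_of_step _ hc w (ha3 _ (ha2 w hw)) (hG _)
  exact fix_of_step _ hc x (hW _ (ha1 x)) (hG _)

/-- An automorphism of `L (n - 4)` in the system with eigenvalues `1, e, f` on the layers. -/
theorem exists_sigma (h : IsMax p ↥S n) (hn : 5 ≤ n)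
    {α : MulAut (L ↥S (n - 4))} (hα : α ∈ autIn F (L ↥S (n - 4))) {c : L ↥S (n - 4)}
    (hc3 : (c : ↥S) ∈ L ↥S (n - 3)) (hαc : α c = c⁻¹)
    (hdisp : ∀ q, α q * q⁻¹ ∈ Subgroup.zpowers c) (hαα : ∀ q, α (α q) = q)
    (hab : ∀ a b : L ↥S (n - 4), a * b = b * a) (hc1 : c ≠ 1) (hcp : c ^ p = 1)
    (hD : C ↥S (n - 3) = C ↥S 1 → (c : ↥S) ∈ L ↥S (n - 2)) :
    ∃ σ ∈ autIn F (L ↥S (n - 4)), ∃ e f : ℤ, e * e = 1 ∧ e * f = -1 ∧
      (C ↥S (n - 3) = C ↥S 1 → e = 1) ∧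
      (∀ q, σ q * q⁻¹ ∈ (L ↥S (n - 3)).subgroupOf (L ↥S (n - 4))) ∧
      (∀ q ∈ (L ↥S (n - 3)).subgroupOf (L ↥S (n - 4)),
        σ q * (q ^ e)⁻¹ ∈ (L ↥S (n - 2)).subgroupOf (L ↥S (n - 4))) ∧
      (∀ q ∈ (L ↥S (n - 2)).subgroupOf (L ↥S (n - 4)), σ q = q ^ f) := by
  set W := (L ↥S (n - 3)).subgroupOf (L ↥S (n - 4)) with hWdef
  set Z := (L ↥S (n - 2)).subgroupOf (L ↥S (n - 4)) with hZdef
  have hW32 : L ↥S (n - 2) ≤ L ↥S (n - 3) := L_anti (by omega)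
  have hWQ : L ↥S (n - 3) ≤ (L ↥S (n - 4)) := L_anti (by omega)
  have hWc : Nat.card W = p ^ 2 := by
    rw [hWdef, Nat.card_congr (Subgroup.subgroupOfEquivOfLe hWQ).toEquiv,
      h.card_L (by omega) (by omega)]
    congr 1; omega
  have hZc : Nat.card Z = p := by
    rw [hZdef, Nat.card_congr (Subgroup.subgroupOfEquivOfLe (hW32.trans hWQ)).toEquiv,
      h.card_L (by omega) (by omega), show n - 1 - (n - 2) = 1 by omega, pow_one]
  have hprime : ∀ z : (L ↥S (n - 4)), z ∈ Z → z ≠ 1 → Subgroup.zpowers z = Z := fun z hz hz1 =>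
    Subgroup.eq_of_le_of_card_ge (Subgroup.zpowers_le.2 hz) (by
      rw [hZc, Nat.card_zpowers]
      have hd : orderOf z ∣ p := hZc ▸ (Subgroup.orderOf_dvd_natCard _ hz)
      rcases (Nat.dvd_prime hp.out).1 hd with h1 | h1
      · exact absurd (orderOf_eq_one_iff.1 h1) hz1
      · exact h1.ge)
  have hαW : ∀ q, α q * q⁻¹ ∈ W := fun q => Subgroup.zpowers_le.2 (show c ∈ W from hc3) (hdisp q)
  by_cases hcZ : c ∈ Z
  · refine ⟨α, hα, 1, -1, by norm_num, by norm_num, fun _ => rfl, hαW, fun q _ => ?_, fun q hq => ?_⟩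
    · rw [zpow_one]; exact Subgroup.zpowers_le.2 hcZ (hdisp q)
    · rw [← hprime c hcZ hc1] at hq
      obtain ⟨k, rfl⟩ := Subgroup.mem_zpowers_iff.1 hq
      rw [map_zpow, hαc, zpow_neg_one, inv_zpow]
  have hne : C ↥S (n - 3) = C ↥S 1 → (-1 : ℤ) = 1 := fun he => absurd (hD he) hcZ
  have hsup : ∀ d : (L ↥S (n - 4)), d ∈ W → d ∉ Z → ∀ q ∈ W, ∃ j : ℤ, (d ^ j)⁻¹ * q ∈ Z := by
    intro d hd hdZ q hq
    obtain ⟨j, hj⟩ := h.exists_pow_mul_mem (k := n - 3) (by omega) (by omega) (a := (d : ↥S)) hd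
      (by rw [show n - 3 + 1 = n - 2 by omega]; exact hdZ) (u := (q : ↥S)) hq
    refine ⟨j, ?_⟩
    rw [show n - 3 + 1 = n - 2 by omega] at hj
    show (((d ^ j)⁻¹ * q : (L ↥S (n - 4))) : ↥S) ∈ L ↥S (n - 2)
    simpa using hj
  obtain ⟨z, hz, hz1⟩ := Z.bot_or_exists_ne_one.resolve_left fun e => by
    rw [e, Subgroup.card_bot] at hZc
    exact hp.out.ne_one hZc.symm
  by_cases hfix : α z = z
  · refine ⟨α, hα, -1, 1, by norm_num, by norm_num, hne, hαW, fun q hq => ?_, fun q hq => ?_⟩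
    · obtain ⟨j, hj⟩ := hsup c hc3 hcZ q hq
      rw [← hprime z hz hz1] at hj
      obtain ⟨k, hk⟩ := Subgroup.mem_zpowers_iff.1 hj
      rw [show q = c ^ j * z ^ k by rw [hk, mul_inv_cancel_left], map_mul, map_zpow, map_zpow, hαc,
        hfix, zpow_neg_one, inv_inv, ← mul_assoc, hab _ (c ^ j), mul_assoc (c ^ j), inv_zpow]
      rw [← mul_assoc (c ^ j)]
      simp only [mul_assoc]
      rw [show (c ^ j) * ((c ^ j)⁻¹ * (z ^ k * (z ^ k))) = z ^ k * z ^ k by group]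
      exact Z.mul_mem (Z.zpow_mem hz k) (Z.zpow_mem hz k)
    · rw [← hprime z hz hz1] at hq
      obtain ⟨k, rfl⟩ := Subgroup.mem_zpowers_iff.1 hq
      rw [map_zpow, hfix, zpow_one]
  -- `α` moves `Z`
  set d : (L ↥S (n - 4)) := α z * z⁻¹ with hddef
  have hd1 : d ≠ 1 := fun e => hfix (mul_inv_eq_one.1 e)
  have hdW : d ∈ W := hαW z
  have hαd : α d = d⁻¹ := by rw [hddef, map_mul, map_inv, hαα, mul_inv_rev, inv_inv]
  have hαz : α z = d * z := by rw [hddef, inv_mul_cancel_right]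
  have hdZ : d ∉ Z := by
    intro hdZ
    have hmem : Subgroup.zpowers d = Subgroup.zpowers c := by
      refine Subgroup.eq_of_le_of_card_ge (Subgroup.zpowers_le.2 (hdisp z)) ?_
      rw [Nat.card_zpowers, Nat.card_zpowers, orderOf_eq_prime hcp hc1]
      rcases (Nat.dvd_prime hp.out).1
          (orderOf_eq_prime hcp hc1 ▸ orderOf_dvd_of_mem_zpowers (hdisp z)) with h1 | h1
      · exact absurd (orderOf_eq_one_iff.1 h1) hd1
      · exact h1.ge
    exact hcZ (Subgroup.zpowers_le.2 hdZ (hmem.ge (Subgroup.mem_zpowers c)))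
  haveI hQn : (L ↥S (n - 4)).Normal := inferInstance
  have hcenZ : ∀ w : (L ↥S (n - 4)), w ∈ Z → ∀ g : ↥S, MulAut.conjNormal g w = w := fun w hw g =>
    Subtype.ext (by rw [MulAut.conjNormal_apply, h.L_last_central (show (w : ↥S) ∈ L ↥S (n - 2) from hw) g, mul_inv_cancel_right])
  obtain ⟨s₁, hs₁⟩ : ∃ g : ↥S, MulAut.conjNormal g d ≠ d := by
    by_contra hcon
    push Not at hcon
    have hcen : (d : ↥S) ∈ Subgroup.center ↥S := Subgroup.mem_center_iff.2 fun g => by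
      have h1 := congrArg Subtype.val (hcon g)
      rwa [MulAut.conjNormal_apply, mul_inv_eq_iff_eq_mul] at h1
    rw [h.center_eq (by omega)] at hcen
    exact hdZ hcen
  set z₀ : (L ↥S (n - 4)) := MulAut.conjNormal s₁ d * d⁻¹ with hz₀
  have hz₀Z : z₀ ∈ Z := by
    show (((MulAut.conjNormal s₁ d * d⁻¹ : (L ↥S (n - 4)))) : ↥S) ∈ L ↥S (n - 2)
    have h1 := top_comm_mem (show (d : ↥S) ∈ L ↥S (n - 3) from hdW) s₁
    rw [show n - 3 + 1 = n - 2 by omega] at h1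
    rw [Subgroup.coe_mul, MulAut.conjNormal_apply, Subgroup.coe_inv, ← commutatorElement_def]
    exact h1
  have hz₀1 : z₀ ≠ 1 := fun e => hs₁ (mul_inv_eq_one.1 e)
  obtain ⟨i, hi⟩ := Subgroup.mem_zpowers_iff.1 ((hprime z₀ hz₀Z hz₀1).ge hz)
  set β : MulAut (L ↥S (n - 4)) := MulAut.conjNormal (s₁ ^ i)
  have hβd : β d = z * d := by
    rw [← hi]
    show MulAut.conjNormal (s₁ ^ i) d = z₀ ^ i * d
    rw [map_zpow]
    have h1 : MulAut.conjNormal s₁ d = z₀ * d := by rw [hz₀, inv_mul_cancel_right]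
    have h2 : (MulAut.conjNormal s₁ : MulAut (L ↥S (n - 4))) z₀ = z₀ := hcenZ z₀ hz₀Z s₁
    generalize (MulAut.conjNormal s₁ : MulAut (L ↥S (n - 4))) = a at h1 h2
    have h3 : ∀ j : ℤ, (a ^ j) z₀ = z₀ := fun j => by
      have hs : a ∈ MulAction.stabilizer (MulAut (L ↥S (n - 4))) z₀ := h2
      exact zpow_mem hs j
    have h4 : a⁻¹ d = z₀⁻¹ * d := by
      apply a.injective
      rw [MulAut.apply_inv_self, map_mul, map_inv, h2, h1, inv_mul_cancel_left]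
    have hall : ∀ j : ℤ, (a ^ j) d = z₀ ^ j * d := by
      intro j
      induction j using Int.induction_on with
      | zero => simp
      | succ j ih =>
        rw [zpow_add_one, MulAut.mul_apply, h1, map_mul, ih, h3, ← mul_assoc, ← zpow_one_add,
          add_comm]
      | pred j ih =>
        rw [zpow_sub_one, MulAut.mul_apply, h4, map_mul, map_inv, ih, h3, ← mul_assoc,
          zpow_sub_one]
        congr 1
        exact ((Commute.refl z₀).zpow_right (-(j : ℤ))).inv_left.eq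
    exact hall i
  have hβz : β z = z := hcenZ z hz _
  have hβd' : β⁻¹ d = z⁻¹ * d := by
    apply β.injective
    rw [MulAut.apply_inv_self, map_mul, map_inv, hβz, hβd, inv_mul_cancel_left]
  have hβz' : β⁻¹ z = z := by
    apply β.injective
    rw [MulAut.apply_inv_self, hβz]
  have hβW : ∀ q, β q * q⁻¹ ∈ W := fun q => by
    show (((β q * q⁻¹ : (L ↥S (n - 4)))) : ↥S) ∈ L ↥S (n - 3)
    have h1 := top_comm_mem (show (q : ↥S) ∈ L ↥S (n - 4) from q.2) (s₁ ^ i)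
    rw [show n - 4 + 1 = n - 3 by omega] at h1
    rw [Subgroup.coe_mul, MulAut.conjNormal_apply, Subgroup.coe_inv, ← commutatorElement_def]
    exact h1
  have hβW' : ∀ q, β⁻¹ q * q⁻¹ ∈ W := fun q => by
    have h1 := W.inv_mem (hβW (β⁻¹ q))
    rw [MulAut.apply_inv_self, mul_inv_rev, inv_inv] at h1
    exact h1
  have hβA : β ∈ autIn F (L ↥S (n - 4)) := conjNormal_mem_autIn F (L ↥S (n - 4)) _
  set σ : MulAut (L ↥S (n - 4)) := α * β⁻¹ * α * β * α with hσdef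
  have hσv : ∀ q, σ q = α (β⁻¹ (α (β (α q)))) := fun q => rfl
  have hσz : σ z = z := by
    have e1 : β (α z) = z * d * z := by rw [hαz, map_mul, hβd, hβz]
    have e2 : α (β (α z)) = d * z * z := by
      rw [e1, map_mul, map_mul, hαz, hαd]; group
    have e3 : β⁻¹ (α (β (α z))) = d * z := by
      rw [e2, map_mul, map_mul, hβd', hβz', hab z⁻¹ d]; group
    rw [hσv, e3, map_mul, hαd, hαz, inv_mul_cancel_left]
  have hσd : σ d * (d ^ (-1 : ℤ))⁻¹ ∈ Z := by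
    have : σ d = z⁻¹ * d⁻¹ := by
      rw [hσv, hαd, map_inv, hβd, map_inv, map_mul, hαz, hαd]
      rw [show (d * z * d⁻¹)⁻¹ = z⁻¹ by rw [hab d z, mul_inv_cancel_right], map_inv, hβz', map_inv,
        hαz, mul_inv_rev]
    rw [this, zpow_neg_one, inv_inv, inv_mul_cancel_right]
    exact Z.inv_mem hz
  have hσA : σ ∈ autIn F (L ↥S (n - 4)) := Subgroup.mul_mem _ (Subgroup.mul_mem _ (Subgroup.mul_mem _
    (Subgroup.mul_mem _ hα (Subgroup.inv_mem _ hβA)) hα) hβA) hα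
  refine ⟨σ, hσA, -1, 1, by norm_num, by norm_num, hne, fun q => ?_, fun q hq => ?_, fun q hq => ?_⟩
  · have e : σ q * q⁻¹ = (α (β⁻¹ (α (β (α q)))) * (β⁻¹ (α (β (α q))))⁻¹) *
        (β⁻¹ (α (β (α q))) * (α (β (α q)))⁻¹) * (α (β (α q)) * (β (α q))⁻¹) *
        (β (α q) * (α q)⁻¹) * (α q * q⁻¹) := by
      rw [hσv]; group
    rw [e]
    exact W.mul_mem (W.mul_mem (W.mul_mem (W.mul_mem (hαW _) (hβW' _)) (hαW _)) (hβW _)) (hαW _)
  · obtain ⟨j, hj⟩ := hsup d hdW hdZ q hq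
    rw [← hprime z hz hz1] at hj
    obtain ⟨k, hk⟩ := Subgroup.mem_zpowers_iff.1 hj
    obtain rfl : q = d ^ j * z ^ k := by rw [hk, mul_inv_cancel_left]
    have hσz0 : σ d = (σ d * (d ^ (-1 : ℤ))⁻¹) * d ^ (-1 : ℤ) := by rw [inv_mul_cancel_right]
    rw [map_mul, map_zpow, map_zpow, hσz, hσz0,
      (show Commute (σ d * (d ^ (-1 : ℤ))⁻¹) (d ^ (-1 : ℤ)) from hab _ _).mul_zpow,
      (show Commute (d ^ j) (z ^ k) from hab _ _).mul_zpow, ← zpow_mul, ← zpow_mul, ← zpow_mul,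
      mul_inv_rev, mul_comm j (-1 : ℤ), mul_assoc ((σ d * (d ^ (-1 : ℤ))⁻¹) ^ j),
      hab (d ^ (-1 * j)) (z ^ k), mul_assoc ((σ d * (d ^ (-1 : ℤ))⁻¹) ^ j)]
    refine Z.mul_mem (Z.zpow_mem hσd _) ?_
    rw [hab (z ^ (k * -1))⁻¹, mul_assoc, mul_inv_cancel_left]
    exact Z.mul_mem (Z.zpow_mem hz _) (Z.inv_mem (Z.zpow_mem hz _))
  · rw [← hprime z hz hz1] at hq
    obtain ⟨k, rfl⟩ := Subgroup.mem_zpowers_iff.1 hq
    rw [map_zpow, hσz, zpow_one]

/-- No elementary abelian subgroup of order `p ^ 3` is essential. -/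
theorem not_isEssential_of_elementary (hS : IsPGroup p S) (hF : F.IsSaturated p)
    (h : IsMax p ↥S n) (hp2 : p ≠ 2) (hn : 5 ≤ n) {E : Subgroup Ω} (hc3 : Nat.card E = p ^ 3)
    (hab : ∀ a b : E, a * b = b * a) (hexp : ∀ a : E, a ^ p = 1) : ¬ F.IsEssential p E := by
  intro hE
  obtain ⟨α, hα, c, hc3', hαc, hdisp, hαα, hQab, hD, hc1, hcp⟩ :=
    exists_reflection hS hF h hp2 hn hE hc3 hab hexp
  obtain ⟨σ, hσ, e, f, he, hef, hne, hσW, hσe, hσf⟩ :=
    exists_sigma h hn hα hc3' hαc hdisp hαα hQab hc1 hcp hD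
  set W := (L ↥S (n - 3)).subgroupOf (L ↥S (n - 4)) with hWdef
  set Z := (L ↥S (n - 2)).subgroupOf (L ↥S (n - 4)) with hZdef
  have hZW : Z ≤ W := fun q hq => L_anti (show n - 3 ≤ n - 2 by omega) hq
  set K := flagStab W Z hZW
  have hconjK : ∀ g : ↥S, (MulAut.conjNormal g : MulAut (L ↥S (n - 4))) ∈ K := fun g => by
    have hstep : ∀ (k : ℕ) (y : ↥S), y ∈ L ↥S k → ∀ g : ↥S, y⁻¹ * (g * y * g⁻¹) ∈ L ↥S (k + 1) :=
      fun k y hy g => by
        have h1 := comm_top_mem (inv_mem hy) g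
        rwa [commutatorElement_def, inv_inv, mul_assoc, mul_assoc, ← mul_assoc g] at h1
    refine ⟨⟨fun q => ?_, fun w hw => ?_⟩, fun w hw => ?_, fun z hz => Subtype.ext ?_⟩
    · show ((q⁻¹ * MulAut.conjNormal g q : (L ↥S (n - 4))) : ↥S) ∈ L ↥S (n - 3)
      rw [Subgroup.coe_mul, Subgroup.coe_inv, MulAut.conjNormal_apply,
        show n - 3 = n - 4 + 1 by omega]
      exact hstep _ _ q.2 g
    · show (((MulAut.conjNormal g : MulAut (L ↥S (n - 4)))⁻¹ w : (L ↥S (n - 4))) : ↥S) ∈ L ↥S (n - 3)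
      rw [← map_inv, MulAut.conjNormal_apply]
      exact (inferInstance : (L ↥S (n - 3)).Normal).conj_mem _ hw _
    · show ((w⁻¹ * MulAut.conjNormal g w : (L ↥S (n - 4))) : ↥S) ∈ L ↥S (n - 2)
      rw [Subgroup.coe_mul, Subgroup.coe_inv, MulAut.conjNormal_apply,
        show n - 2 = n - 3 + 1 by omega]
      exact hstep _ _ hw g
    · rw [MulAut.conjNormal_apply, h.L_last_central (show ((z : L ↥S (n - 4)) : ↥S) ∈ L ↥S (n - 2) from hz) g,
        mul_inv_cancel_right]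
  have hσWmem : ∀ w ∈ W, σ w ∈ W := fun w hw => by
    have := W.mul_mem (hσW w) hw
    rwa [inv_mul_cancel_right] at this
  have hσWinv : ∀ w ∈ W, σ⁻¹ w ∈ W := fun w hw => by
    have h1 := hσW (σ⁻¹ w)
    rw [MulAut.apply_inv_self] at h1
    have := W.mul_mem (W.inv_mem h1) hw
    rwa [mul_inv_rev, inv_inv, inv_mul_cancel_right] at this
  have hσZmem : ∀ z ∈ Z, σ z ∈ Z := fun z hz => by rw [hσf z hz]; exact Z.zpow_mem hz f
  have hσZinv : ∀ z ∈ Z, σ⁻¹ z ∈ Z := fun z hz => by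
    have hf : f * f = 1 := by
      have h1 : e * f * (e * f) = 1 := by rw [hef]; norm_num
      linear_combination h1 - f * f * he
    have : σ (z ^ f) = z := by rw [hσf _ (Z.zpow_mem hz f), ← zpow_mul, hf, zpow_one]
    rw [← this, MulAut.inv_apply_self]
    exact Z.zpow_mem hz f
  have hσK : ∀ a ∈ K, σ * a * σ⁻¹ ∈ K := by
    rintro a ⟨⟨ha1, ha1'⟩, ha2, ha3⟩
    refine ⟨⟨fun q => ?_, fun w hw => ?_⟩, fun w hw => ?_, fun z hz => ?_⟩
    · have h1 : q⁻¹ * (σ * a * σ⁻¹) q = σ ((σ⁻¹ q)⁻¹ * a (σ⁻¹ q)) := by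
        rw [MulAut.mul_apply, MulAut.mul_apply, map_mul, map_inv, MulAut.apply_inv_self]
      rw [h1]; exact hσWmem _ (ha1 _)
    · rw [mul_inv_rev, mul_inv_rev, inv_inv, MulAut.mul_apply, MulAut.mul_apply]
      exact hσWmem _ (ha1' _ (hσWinv w hw))
    · have h1 : w⁻¹ * (σ * a * σ⁻¹) w = σ ((σ⁻¹ w)⁻¹ * a (σ⁻¹ w)) := by
        rw [MulAut.mul_apply, MulAut.mul_apply, map_mul, map_inv, MulAut.apply_inv_self]
      rw [h1]; exact hσZmem _ (ha2 _ (hσWinv w hw))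
    · rw [MulAut.mul_apply, MulAut.mul_apply, ha3 _ (hσZinv z hz), MulAut.apply_inv_self]
  -- the automorphisms induced by `S` are those in the flag stabiliser
  set QΩ := (L ↥S (n - 4)).map S.subtype
  have hQS : QΩ ≤ S := Subgroup.map_subtype_le (L ↥S (n - 4))
  haveI : Finite QΩ := finite_of_le hQS
  haveI := finite_autGroup (F := F) hQS
  have hQn : ∀ g ∈ S, g ∈ Subgroup.normalizer (QΩ : Set Ω) := fun g hg =>
    mem_normalizer_map (⟨g, hg⟩ : ↥S)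
  have hQf : F.IsFullyNormalized QΩ := by
    refine ⟨hQS, fun R _ => ?_⟩
    have heq : normalizerIn S QΩ = S := le_antisymm inf_le_left (le_inf le_rfl hQn)
    rw [heq]
    exact Subgroup.card_le_of_le inf_le_left
  obtain ⟨-, R, hR⟩ := isFullyAutomized_of_isFullyNormalized hS hF hQf
  set KΩ : Subgroup (MulAut QΩ) := K.map (MulAut.congr (toAmbient (L ↥S (n - 4)))).toMonoidHom
  have hTK : autInducedBy S QΩ ≤ KΩ := fun a ha => by
    obtain ⟨g, hg, hgS, rfl⟩ := mem_autInducedBy_normalizer.1 ha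
    exact ⟨MulAut.conjNormal (⟨g, hgS⟩ : ↥S), hconjK _,
      congr_conjNormal_eq (L ↥S (n - 4)) ⟨g, hgS⟩ (hQn g hgS)⟩
  have hKp : IsPGroup p (KΩ.subgroupOf (F.autGroup QΩ)) :=
    ((isPGroup_flagStab ((h.isPGroup).to_subgroup (L ↥S (n - 4))) hZW).map _).comap_subtype
  have hKR : (R : Subgroup (F.autGroup QΩ)) = KΩ.subgroupOf (F.autGroup QΩ) :=
    (R.3 hKp (hR.le.trans (Subgroup.comap_mono hTK))).symm
  set σΩ : MulAut QΩ := MulAut.congr (toAmbient (L ↥S (n - 4))) σ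
  have hσΩ : σΩ ∈ F.autGroup QΩ := hσ
  obtain ⟨γ, hγ, hγQ⟩ := CentralCommutator.exists_extension hS hF hQf hQn hσΩ (fun g hg => by
    have hgA : conjAut QΩ g (hQn g hg) ∈ F.autGroup QΩ :=
      autInducedBy_le_autGroup hQS (mem_autInducedBy_normalizer.2 ⟨g, hQn g hg, hg, rfl⟩)
    have hmemA : σΩ * conjAut QΩ g (hQn g hg) * σΩ⁻¹ ∈ F.autGroup QΩ :=
      Subgroup.mul_mem _ (Subgroup.mul_mem _ hσΩ hgA) (Subgroup.inv_mem _ hσΩ)
    have hmem : (⟨_, hmemA⟩ : F.autGroup QΩ) ∈ KΩ.subgroupOf (F.autGroup QΩ) := by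
      refine ⟨σ * MulAut.conjNormal (⟨g, hg⟩ : ↥S) * σ⁻¹, hσK _ (hconjK _), ?_⟩
      rw [MulEquiv.coe_toMonoidHom, map_mul, map_mul, map_inv,
        congr_conjNormal_eq (L ↥S (n - 4)) ⟨g, hg⟩ (hQn g hg)]
      rfl
    rw [← hKR, hR] at hmem
    exact hmem)
  -- `γ` as an automorphism of `↥S`
  have hγv : ∀ q : (L ↥S (n - 4)), (γ (q : ↥S) : Ω) = (((σ q : (L ↥S (n - 4))) : ↥S) : Ω) := fun q => by
    have h1 := hγQ (toAmbient (L ↥S (n - 4)) q) (by rw [toAmbient_apply]; exact (q : ↥S).2)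
    rw [congr_apply_coe] at h1
    rw [← h1]
    congr 2
  have hγq : ∀ q : (L ↥S (n - 4)), γ (q : ↥S) = ((σ q : (L ↥S (n - 4))) : ↥S) := fun q => Subtype.ext (hγv q)
  have hact : ∀ (k : ℕ) (hk : n - 4 ≤ k) (a : ℤ),
      (∀ v ∈ L ↥S k, ∀ hv : v ∈ (L ↥S (n - 4)), ((σ ⟨v, hv⟩ : (L ↥S (n - 4))) : ↥S) * (v ^ a)⁻¹ ∈ L ↥S (k + 1)) →
      Act γ k a := fun k hk a hcon v hv => by
    rw [← QuotientGroup.mk_zpow]
    refine ((QuotientGroup.eq).2 ?_).symm
    have h1 := hcon v hv (L_anti hk hv)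
    rw [← hγq] at h1
    have := (inferInstance : (L ↥S (k + 1)).Normal).conj_mem _ h1 (v ^ a)⁻¹
    simpa [mul_assoc] using this
  refine no_sign_pattern h hp2 hn γ he hef ?_ ?_ ?_ hne
  · refine hact _ le_rfl 1 fun v _ hv => ?_
    rw [zpow_one, show n - 4 + 1 = n - 3 by omega]
    exact hσW ⟨v, hv⟩
  · refine hact _ (by omega) e fun v hv hvQ => ?_
    rw [show n - 3 + 1 = n - 2 by omega]
    exact hσe ⟨v, hvQ⟩ hv
  · refine hact _ (by omega) f fun v hv hvQ => ?_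
    rw [hσf ⟨v, hvQ⟩ hv, SubgroupClass.coe_zpow, mul_inv_cancel]
    exact Subgroup.one_mem _

end Cfsg.Agent.Lib.Fusion87
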