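import Cfsg.Agent.Lib.Fusion87.EssentialElementary

/-!
In a `p`-group of maximal class of order at least `p ^ 5`, `p` odd, no elementary abelian subgroup
of order `p ^ 3` is essential: the fusion-theoretic part.
-/

set_option autoImplicit false

namespace Cfsg.Agent.Lib.Fusion87

open Cfsg Cfsg.FusionSystem Cfsg.Agent.Lib.Fusion Cfsg.Agent.Lib.H66.MaxClass
open scoped commutatorElement

universe u

variable {Ω : Type u} [Group Ω] {S : Subgroup Ω} {F : FusionSystem S} {p : ℕ} [hp : Fact p.Prime]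
  {n : ℕ}

/-- A subgroup of `↥S` and its image in `Ω`. -/
noncomputable def toAmbient (K : Subgroup ↥S) : K ≃* K.map S.subtype :=
  K.equivMapOfInjective S.subtype S.subtype_injective

theorem toAmbient_apply (K : Subgroup ↥S) (x : K) : ((toAmbient K x : _) : Ω) = ((x : ↥S) : Ω) :=
  Subgroup.coe_equivMapOfInjective_apply ..

/-- The automorphisms of `K ≤ ↥S` in the system. -/
noncomputable def autIn (F : FusionSystem S) (K : Subgroup ↥S) : Subgroup (MulAut K) :=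
  (F.autGroup (K.map S.subtype)).comap (MulAut.congr (toAmbient K)).toMonoidHom

theorem congr_apply_coe (K : Subgroup ↥S) (a : MulAut K) (x : K) :
    ((MulAut.congr (toAmbient K) a) (toAmbient K x) : Ω) = ((a x : ↥S) : Ω) := by
  show (toAmbient K (a ((toAmbient K).symm (toAmbient K x))) : Ω) = _
  rw [MulEquiv.symm_apply_apply, toAmbient_apply]

theorem congr_conjNormal_eq (K : Subgroup ↥S) [K.Normal] (g : ↥S)
    (hg : (g : Ω) ∈ Subgroup.normalizer (K.map S.subtype : Set Ω)) :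
    MulAut.congr (toAmbient K) (MulAut.conjNormal g) = conjAut (K.map S.subtype) (g : Ω) hg := by
  ext y
  obtain ⟨x, rfl⟩ := (toAmbient K).surjective y
  rw [congr_apply_coe, conjAut_apply, toAmbient_apply]
  rfl

theorem mem_normalizer_map {K : Subgroup ↥S} [K.Normal] (g : ↥S) :
    (g : Ω) ∈ Subgroup.normalizer (K.map S.subtype : Set Ω) :=
  Subgroup.le_normalizer_map S.subtype ⟨g, by rw [Subgroup.normalizer_eq_top]; trivial, rfl⟩

theorem conjNormal_mem_autIn (F : FusionSystem S) (K : Subgroup ↥S) [K.Normal] (g : ↥S) :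
    MulAut.conjNormal g ∈ autIn F K := by
  rw [autIn, Subgroup.mem_comap, MulEquiv.coe_toMonoidHom,
    congr_conjNormal_eq K g (mem_normalizer_map g)]
  exact autInducedBy_le_autGroup (Subgroup.map_subtype_le K)
    (mem_autInducedBy_normalizer.2 ⟨g, mem_normalizer_map g, g.2, rfl⟩)

variable [Finite S]

theorem card_map_subtype (K : Subgroup ↥S) : Nat.card (K.map S.subtype) = Nat.card K :=
  Subgroup.card_map_of_injective S.subtype_injective

/-- An element with coprime powers in a subgroup lies in it. -/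
theorem pow_mem_of_coprime {G : Type*} [Group G] {H : Subgroup G} {x : G} {a b : ℕ}
    (hab : a.Coprime b) (ha : x ^ a ∈ H) (hb : x ^ b ∈ H) : x ∈ H := by
  obtain ⟨u, v, huv⟩ := hab.isCoprime
  have : x = (x ^ a) ^ u * (x ^ b) ^ v := by
    rw [← zpow_natCast x a, ← zpow_natCast x b, ← zpow_mul, ← zpow_mul, ← zpow_add,
      mul_comm (a : ℤ) u, mul_comm (b : ℤ) v, huv, zpow_one]
  rw [this]
  exact H.mul_mem (H.zpow_mem ha u) (H.zpow_mem hb v)

/-- The reflection on `L (n - 4)` coming from an elementary abelian essential subgroup of order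
`p ^ 3`. -/
theorem exists_reflection (hS : IsPGroup p S) (hF : F.IsSaturated p) (h : IsMax p ↥S n)
    (hp2 : p ≠ 2) (hn : 5 ≤ n) {E : Subgroup Ω} (hE : F.IsEssential p E)
    (hc3 : Nat.card E = p ^ 3) (hab : ∀ a b : E, a * b = b * a) (hexp : ∀ a : E, a ^ p = 1) :
    ∃ α ∈ autIn F (L ↥S (n - 4)), ∃ c : L ↥S (n - 4),
      (c : ↥S) ∈ L ↥S (n - 3) ∧ α c = c⁻¹ ∧ (∀ q, α q * q⁻¹ ∈ Subgroup.zpowers c) ∧
      (∀ q, α (α q) = q) ∧ (∀ a b : L ↥S (n - 4), a * b = b * a) ∧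
      (C ↥S (n - 3) = C ↥S 1 → (c : ↥S) ∈ L ↥S (n - 2)) ∧ c ≠ 1 ∧ c ^ p = 1 := by
  classical
  obtain ⟨hcen, hfn, hInn, H, hH⟩ := hE
  have hES : E ≤ S := hcen.1
  haveI : Finite E := finite_of_le hES
  haveI := finite_autGroup (F := F) hES
  set A := F.autGroup E
  -- `Inn E` is trivial
  have hbot : (Inn E).subgroupOf A = ⊥ := by
    rw [eq_bot_iff]
    intro a ha
    obtain ⟨g, hg⟩ := Subgroup.mem_subgroupOf.1 ha
    refine Subgroup.mem_bot.2 (Subtype.ext ?_)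
    rw [← hg]
    ext x
    show ((g * x * g⁻¹ : E) : Ω) = x
    rw [hab g x, mul_inv_cancel_right]
  haveI := hInn
  set eA := (QuotientGroup.quotientMulEquivOfEq hbot).trans (QuotientGroup.quotientBot (G := A))
  have hH' : IsStronglyPEmbedded p (H.map eA.toMonoidHom) := isStronglyPEmbedded_map hH eA
  set H' := H.map eA.toMonoidHom
  set T := autInducedBy S E
  have hTA : T ≤ A := autInducedBy_le_autGroup hES
  have hTp : IsPGroup p T := isPGroup_autInducedBy hS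
  have hTc : Nat.card T ≤ p := by
    rw [← Nat.card_congr (Subgroup.subgroupOfEquivOfLe hTA).toEquiv]
    exact RankThree.card_le_prime hab hc3 hexp hH' hp2 hTp.comap_subtype
  -- the subgroups of `↥S`
  set Es := E.subgroupOf S with hEs
  have hEsc : Nat.card Es = p ^ 3 :=
    (Nat.card_congr (Subgroup.subgroupOfEquivOfLe hES).toEquiv).trans hc3
  have hsab : ∀ a ∈ Es, ∀ b ∈ Es, a * b = b * a := fun a ha b hb =>
    Subtype.ext (congrArg (fun w : E => (w : Ω)) (hab ⟨a, ha⟩ ⟨b, hb⟩))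
  have hcc := centralizerIn_le_of_isCentric hcen
  have hC : Subgroup.centralizer (Es : Set ↥S) ≤ Es := fun x hx => hcc ⟨x.2, fun y hy =>
    congrArg Subtype.val (Subgroup.mem_centralizer_iff.mp hx ⟨y, hES hy⟩ hy)⟩
  set N := Subgroup.normalizer (Es : Set ↥S) with hNdef
  have hEN : Es ≤ N := Subgroup.le_normalizer
  have hmemN : ∀ g : ↥S, g ∈ N ↔ (g : Ω) ∈ Subgroup.normalizer (E : Set Ω) := fun g => by
    constructor
    · intro hg
      refine le_normalizer_of_comm (K := (N.map S.subtype)) (fun q hq e he => ?_) ⟨g, hg, rfl⟩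
      obtain ⟨q, hq, rfl⟩ := hq
      have hm : q * (⟨e, hES he⟩ : ↥S) * q⁻¹ ∈ Es := (Subgroup.mem_normalizer_iff.1 hq ⟨e, hES he⟩).1 he
      exact E.mul_mem hm (E.inv_mem he)
    · intro hg
      exact Subgroup.mem_normalizer_iff.2 fun x => Subgroup.mem_normalizer_iff.1 hg (x : Ω)
  have hNmap : N.map S.subtype = normalizerIn S E := by
    ext g
    constructor
    · rintro ⟨g, hg, rfl⟩
      exact ⟨g.2, (hmemN g).1 hg⟩
    · rintro ⟨hgS, hg⟩
      exact ⟨⟨g, hgS⟩, (hmemN _).2 hg, rfl⟩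
  have hEtop : Es ≠ ⊤ := fun e => by
    rw [e, Subgroup.card_top, h.card] at hEsc
    exact absurd (Nat.pow_right_injective hp.out.two_le hEsc) (by omega)
  haveI := h.isNilpotent
  have hlt : Es < N :=
    (Group.normalizerCondition_of_isNilpotent (G := ↥S)) Es (lt_top_iff_ne_top.2 hEtop)
  have hN4 : Nat.card N = p ^ 4 := by
    refine le_antisymm ?_ ?_
    · have h1 := card_autInducedBy_mul_centralizerIn (S := S) E
      rw [← hNmap, card_map_subtype] at h1
      rw [← h1]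
      calc Nat.card T * Nat.card (centralizerIn S E) ≤ p * p ^ 3 :=
            Nat.mul_le_mul hTc ((Subgroup.card_le_of_le hcc).trans hc3.le)
        _ = p ^ 4 := by ring
    · have := h.card_lt_card_mul hlt
      rwa [hEsc, ← pow_succ] at this
  have hNtop : N ≠ ⊤ := fun e => by
    rw [e, Subgroup.card_top, h.card] at hN4
    exact absurd (Nat.pow_right_injective hp.out.two_le hN4) (by omega)
  obtain ⟨s, hs, hsN⟩ := SetLike.exists_of_lt
    ((Group.normalizerCondition_of_isNilpotent (G := ↥S)) N (lt_top_iff_ne_top.2 hNtop))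
  have hconjN : ∀ x ∈ N, ∀ g ∈ Subgroup.normalizer (N : Set ↥S), g * x * g⁻¹ ∈ N :=
    fun x hx g hg => (Subgroup.mem_normalizer_iff.1 hg x).1 hx
  have hmapN : ∀ g ∈ Subgroup.normalizer (N : Set ↥S), Es.map (MulAut.conj g).toMonoidHom ≤ N := by
    rintro g hg _ ⟨x, hx, rfl⟩
    exact hconjN x (hEN hx) g hg
  have hconj_eq : ∀ g : ↥S, Es.map (MulAut.conj g).toMonoidHom = Es → g ∈ N := fun g he =>
    Subgroup.mem_normalizer_iff_map_conj_eq.2 he
  have hcard_conj : ∀ g : ↥S, Nat.card (Es.map (MulAut.conj g).toMonoidHom) = p ^ 3 := fun g =>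
    (Subgroup.card_map_of_injective (MulAut.conj g).injective).trans hEsc
  -- the centre of `N`
  set Z1 := Subgroup.centralizer (N : Set ↥S) ⊓ Es with hZ1def
  have hZ1N : ∀ w ∈ Z1, ∀ x ∈ N, x * w = w * x := fun w hw x hx =>
    Subgroup.mem_centralizer_iff.1 hw.1 x hx
  have hZ1c : Nat.card Z1 = p ^ 2 := by
    set E' := Es.map (MulAut.conj s).toMonoidHom with hE'
    have hne : E' ≠ Es := fun e => hsN (hconj_eq s e)
    have hjoin : Es ⊔ E' = N := by
      refine Subgroup.eq_of_le_of_card_ge (sup_le hEN (hmapN s hs)) ?_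
      refine le_trans (le_of_eq ?_) (h.card_lt_card_mul (lt_of_le_of_ne (le_sup_left : Es ≤ Es ⊔ E')
        fun e => hne (Subgroup.eq_of_le_of_card_ge (e ▸ le_sup_right) (by rw [hcard_conj, hEsc]))))
      rw [hN4, hEsc, ← pow_succ]
    have hW : Es ⊓ E' ≤ Z1 := by
      rintro w ⟨hw1, hw2⟩
      refine ⟨Subgroup.mem_centralizer_iff.2 fun x hx => ?_, hw1⟩
      have hle : N ≤ Subgroup.centralizer ({w} : Set ↥S) := by
        rw [← hjoin]
        refine sup_le (fun e he => Subgroup.mem_centralizer_singleton_iff.2 (hsab e he w hw1)) ?_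
        intro e he
        obtain ⟨a, ha, rfl⟩ := he
        obtain ⟨b, hb, rfl⟩ := hw2
        exact Subgroup.mem_centralizer_singleton_iff.2 (by
          rw [← map_mul, ← map_mul, hsab a ha b hb])
      exact Subgroup.mem_centralizer_singleton_iff.1 (hle hx)
    have hrel : (Es ⊓ E').relIndex E' ≤ p := by
      rw [Subgroup.inf_relIndex_right]
      have h1 : Es.relIndex N = p := by
        have h2 := Subgroup.card_mul_index (Es.subgroupOf N)
        rw [Nat.card_congr (Subgroup.subgroupOfEquivOfLe hEN).toEquiv, hEsc, hN4] at h2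
        exact Nat.eq_of_mul_eq_mul_left (pow_pos hp.out.pos 3) (h2.trans (pow_succ p 3))
      rw [← h1]
      exact Subgroup.relIndex_le_of_le_right (hmapN s hs) (by rw [h1]; exact hp.out.ne_zero)
    have hge : p ^ 2 ≤ Nat.card ↥(Es ⊓ E') := by
      have h2 := Subgroup.card_mul_index ((Es ⊓ E').subgroupOf E')
      rw [Nat.card_congr (Subgroup.subgroupOfEquivOfLe inf_le_right).toEquiv, hcard_conj] at h2
      refine Nat.le_of_mul_le_mul_right ?_ hp.out.pos
      rw [← pow_succ, ← h2]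
      exact Nat.mul_le_mul_left _ hrel
    refine le_antisymm ?_ (hge.trans (Subgroup.card_le_of_le hW))
    obtain ⟨i, hi⟩ := h.exists_card_eq Z1
    have hlt' : Nat.card Z1 < Nat.card Es := by
      refine lt_of_le_of_ne (Subgroup.card_le_of_le inf_le_right) fun heq => hlt.not_ge fun x hx => ?_
      exact hC (Subgroup.mem_centralizer_iff.2 fun e he => (hZ1N e
        ((Subgroup.eq_of_le_of_card_ge inf_le_right heq.ge).ge he) x hx).symm)
    rw [hi, hEsc, Nat.pow_lt_pow_iff_right hp.out.one_lt] at hlt'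
    rw [hi]
    exact Nat.pow_le_pow_right hp.out.pos (by omega)
  obtain ⟨hQN, hQE, hQnle, hD⟩ := elementary_structure h hp2 hn hEsc hsab hC hNdef hN4 inf_le_right
    hZ1c hZ1N
  set Q := L ↥S (n - 4) with hQdef
  have hQc : Nat.card Q = p ^ 3 := by
    rw [hQdef, h.card_L (by omega) (by omega)]; congr 1; omega
  have hQL : ∀ q ∈ Q, ∀ g : ↥S, ⁅q, g⁆ ∈ L ↥S (n - 3) := fun q hq g => by
    have := comm_top_mem hq g
    rwa [show n - 4 + 1 = n - 3 by omega] at this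
  obtain ⟨u₀, hu₀Q, hu₀E⟩ := SetLike.not_le_iff_exists.1 hQnle
  have hu₀N : (u₀ : Ω) ∈ Subgroup.normalizer (E : Set Ω) := (hmemN _).1 (hQN hu₀Q)
  set r : MulAut E := conjAut E (u₀ : Ω) hu₀N
  have hrT : r ∈ T := mem_autInducedBy_normalizer.2 ⟨_, hu₀N, u₀.2, rfl⟩
  have hrdisp : ∀ x : E, ((RankThree.disp r x : E) : Ω) = ((⁅u₀, (⟨x, hES x.2⟩ : ↥S)⁆ : ↥S) : Ω) :=
    fun x => rfl
  have hr1 : r ≠ 1 := fun e => hu₀E (hC (Subgroup.mem_centralizer_iff.2 fun y hy => by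
    have h1 := congrArg (fun a : MulAut E => (a ⟨y, hy⟩ : Ω)) e
    simp only [MulAut.one_apply] at h1
    rw [conjAut_apply] at h1
    exact (Subtype.ext (mul_inv_eq_iff_eq_mul.1 h1)).symm))
  set Z1E : Subgroup E := (Z1.map S.subtype).subgroupOf E with hZ1E
  have hZ1Ec : Nat.card Z1E = p ^ 2 := by
    rw [hZ1E, Nat.card_congr (Subgroup.subgroupOfEquivOfLe (show Z1.map S.subtype ≤ E by
      rintro _ ⟨w, hw, rfl⟩; exact hw.2)).toEquiv, card_map_subtype, hZ1c]
  have hdispZ : ∀ x : E, RankThree.disp r x ∈ Z1E := fun x => by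
    have hqE : ⁅u₀, (⟨x, hES x.2⟩ : ↥S)⁆ ∈ Es := by
      show ((RankThree.disp r x : E) : Ω) ∈ E
      exact SetLike.coe_mem _
    refine ⟨⁅u₀, ⟨x, hES x.2⟩⁆, hQE.le ⟨L_anti (by omega) (hQL u₀ hu₀Q _), hqE⟩, rfl⟩
  have hfixZ : ∀ x : E, x ∈ Z1E → r x = x := by
    rintro ⟨x, hxE⟩ hx
    obtain ⟨w, hw, hwx⟩ := hx
    apply Subtype.ext
    rw [conjAut_apply]
    have h1 := congrArg Subtype.val (hZ1N w hw u₀ (hQN hu₀Q))
    simp only [Subgroup.coe_subtype] at hwx
    show (u₀ : Ω) * x * (u₀ : Ω)⁻¹ = x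
    rw [← hwx, show (u₀ : Ω) * (w : Ω) = (w : Ω) * u₀ from h1, mul_inv_cancel_right]
  obtain ⟨x₀, hx₀⟩ : ∃ x, RankThree.disp r x ≠ 1 := by
    by_contra hcon
    push Not at hcon
    exact hr1 (MulEquiv.ext fun x => RankThree.disp_eq_one.1 (hcon x))
  set c := RankThree.disp r x₀ with hcdef
  have hrc : r c = c := hfixZ c (hdispZ x₀)
  have hrd : ∀ x, RankThree.disp r x ∈ Subgroup.zpowers c := by
    set φ := RankThree.dispHom hab r
    have hcard : Nat.card φ.range ≤ p := by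
      have h1 := φ.ker.card_mul_index
      rw [Subgroup.index_ker, hc3] at h1
      refine Nat.le_of_mul_le_mul_left ?_ (pow_pos hp.out.pos 2)
      rw [← pow_succ, ← h1]
      refine Nat.mul_le_mul_right _ (hZ1Ec.ge.trans (Subgroup.card_le_of_le fun x hx => ?_))
      exact RankThree.disp_eq_one.2 (hfixZ x hx)
    intro x
    have hmem : c ∈ φ.range := ⟨x₀, rfl⟩
    have heq : Subgroup.zpowers c = φ.range :=
      Subgroup.eq_of_le_of_card_ge (Subgroup.zpowers_le.2 hmem) (by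
        rw [RankThree.card_zpowers_eq hc3 hexp hx₀]
        exact hcard)
    exact heq.ge ⟨x, rfl⟩
  set cS : ↥S := ⟨(c : Ω), hES c.2⟩ with hcS
  have hcSQ : cS ∈ Q := by
    have : cS = ⁅u₀, (⟨x₀, hES x₀.2⟩ : ↥S)⁆ := Subtype.ext (hrdisp x₀)
    rw [this]; exact L_anti (by omega) (hQL u₀ hu₀Q _)
  have hcS3 : cS ∈ L ↥S (n - 3) := by
    have : cS = ⁅u₀, (⟨x₀, hES x₀.2⟩ : ↥S)⁆ := Subtype.ext (hrdisp x₀)
    rw [this]; exact hQL u₀ hu₀Q _
  have hcS2 : C ↥S (n - 3) = C ↥S 1 → cS ∈ L ↥S (n - 2) := fun heq => by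
    have : cS = ⁅u₀, (⟨x₀, hES x₀.2⟩ : ↥S)⁆ := Subtype.ext (hrdisp x₀)
    rw [this]; exact hD heq u₀ hu₀Q _ x₀.2
  -- the involution
  set rA : A := ⟨r, hTA hrT⟩
  have hrA1 : rA ≠ 1 := fun e => hr1 (congrArg Subtype.val e)
  obtain ⟨T₁, hT₁⟩ := (hTp.comap_subtype (K := A) : IsPGroup p (T.subgroupOf A)).exists_le_sylow
  have hrT₁ : rA ∈ (T₁ : Subgroup A) := hT₁ hrT
  obtain ⟨Pₛ, hPₛ⟩ := StronglyP.exists_sylow_le hH'
  obtain ⟨k, hk⟩ := MulAction.exists_smul_eq A T₁ Pₛ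
  set r' : A := k * rA * k⁻¹ with hr'
  have hr'H : r' ∈ H' := hPₛ (by
    rw [← hk, Sylow.coe_subgroup_smul]
    exact ⟨rA, hrT₁, by simp [r']⟩)
  have hr'1 : r' ≠ 1 := fun e => hrA1 (by simpa [r'] using e)
  obtain ⟨kr, hkr⟩ : ∃ j : ℕ, r' ^ p ^ j = 1 := by
    obtain ⟨j, hj⟩ := T₁.2 ⟨rA, hrT₁⟩
    exact ⟨j, by rw [hr', conj_pow, show rA ^ p ^ j = 1 from by simpa using congrArg Subtype.val hj]; simp⟩
  have hdisp' : ∀ v, RankThree.disp (r' : MulAut E) v =
      (k : MulAut E) (RankThree.disp r ((k : MulAut E)⁻¹ v)) := fun v => by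
    simp [r', rA, RankThree.disp, MulAut.mul_apply, MulAut.apply_inv_self]
  have hc'1 : (k : MulAut E) c ≠ 1 := fun e => hx₀ (by simpa using e)
  have hr'c : (r' : MulAut E) ((k : MulAut E) c) = (k : MulAut E) c := RankThree.disp_eq_one.1 (by
    rw [hdisp', MulAut.inv_apply_self, RankThree.disp_eq_one.2 hrc, map_one])
  have hr'd : ∀ v, RankThree.disp (r' : MulAut E) v ∈ Subgroup.zpowers ((k : MulAut E) c) := fun v => by
    obtain ⟨j, hj⟩ := Subgroup.mem_zpowers_iff.1 (hrd ((k : MulAut E)⁻¹ v))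
    exact Subgroup.mem_zpowers_iff.2 ⟨j, by rw [hdisp', ← hj, map_zpow]⟩
  obtain ⟨τ₀, hτr, hτc, hτ2, -, hτfix⟩ := RankThree.exists_involution hab hc3 hexp hH' hp2
    ⟨kr, hkr⟩ hr'H hr'1 hc'1 hr'c hr'd
  set τA : A := k⁻¹ * τ₀ * k with hτA
  set τ : MulAut E := (τA : MulAut E) with hτ
  have hτv : ∀ v, τ v = (k : MulAut E)⁻¹ ((τ₀ : MulAut E) ((k : MulAut E) v)) := fun v => rfl
  have hτcomm : τA * rA = rA * τA :=
    calc τA * rA = k⁻¹ * (τ₀ * r') * k := by rw [hτA, hr']; group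
      _ = k⁻¹ * (r' * τ₀) * k := by rw [hτr]
      _ = rA * τA := by rw [hτA, hr']; group
  have hτc' : τ c = c⁻¹ := by rw [hτv, hτc, map_inv, MulAut.inv_apply_self]
  have hττ : ∀ v, τ (τ v) = v := fun v => by
    rw [hτv, hτv, MulAut.apply_inv_self, hτ2, MulAut.inv_apply_self]
  have hτfix' : ∀ v, r v = v → τ v * v⁻¹ ∈ Subgroup.zpowers c := fun v hv => by
    have h1 : (r' : MulAut E) ((k : MulAut E) v) = (k : MulAut E) v := RankThree.disp_eq_one.1 (by
      rw [hdisp', MulAut.inv_apply_self, RankThree.disp_eq_one.2 hv, map_one])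
    obtain ⟨j, hj⟩ := Subgroup.mem_zpowers_iff.1 (hτfix _ h1)
    refine Subgroup.mem_zpowers_iff.2 ⟨j, (k : MulAut E).injective ?_⟩
    rw [map_mul, map_inv, hτv, MulAut.apply_inv_self, map_zpow, hj]
  have hrgen : Subgroup.zpowers r = T := Subgroup.eq_of_le_of_card_ge (Subgroup.zpowers_le.2 hrT) (by
    obtain ⟨j, hj⟩ := hTp ⟨r, hrT⟩
    obtain ⟨i, -, hi⟩ := (Nat.dvd_prime_pow hp.out).1 (orderOf_dvd_of_pow_eq_one
      (show r ^ p ^ j = 1 from congrArg Subtype.val hj))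
    rw [Nat.card_zpowers, hi]
    refine hTc.trans (Nat.le_self_pow (fun e0 => hr1 ?_) p)
    rw [e0, pow_zero, orderOf_eq_one_iff] at hi
    exact hi)
  have hτT : ∀ a ∈ T, τ * a * τ⁻¹ = a := fun a ha => by
    rw [← hrgen] at ha
    obtain ⟨j, rfl⟩ := Subgroup.mem_zpowers_iff.1 ha
    have hc : Commute τ r := congrArg Subtype.val hτcomm
    rw [(hc.zpow_right j).eq, mul_inv_cancel_right]
  obtain ⟨γ₀, hγ₀, hγ₀E, hγ₀C⟩ := exists_extension_normalizer hS hF hfn τA.2 hτT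
  -- transport to `N`
  set eN : N ≃* normalizerIn S E := (toAmbient N).trans (MulEquiv.subgroupCongr hNmap) with heN
  have heN' : ∀ g : N, (eN g : Ω) = ((g : ↥S) : Ω) := fun g => toAmbient_apply N g
  set γ₁ : MulAut N := (MulAut.congr eN).symm γ₀ with hγ₁
  have hγ₁v : ∀ g : N, (((γ₁ g : N) : ↥S) : Ω) = (γ₀ (eN g) : Ω) := fun g => by
    rw [← heN']
    exact congrArg Subtype.val (eN.apply_symm_apply _)
  set EN : Subgroup N := Es.subgroupOf N with hEN'
  have hγ₁mod : ∀ g : N, g⁻¹ * γ₁ g ∈ EN := fun g => by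
    show ((g⁻¹ * γ₁ g : N) : ↥S) ∈ Es
    show (((g⁻¹ * γ₁ g : N) : ↥S) : Ω) ∈ E
    rw [Subgroup.coe_mul, Subgroup.coe_inv, Subgroup.coe_mul, Subgroup.coe_inv, hγ₁v g, ← heN' g]
    exact hcc (hγ₀C (eN g))
  let inE : ∀ g : N, g ∈ EN → E := fun g hg => ⟨((g : ↥S) : Ω), hg⟩
  have hγ₁E : ∀ (g : N) (hg : g ∈ EN), (((γ₁ g : N) : ↥S) : Ω) = (τ (inE g hg) : Ω) := fun g hg => by
    rw [hγ₁v g]
    have hm : ((g : ↥S) : Ω) ∈ normalizerIn S E := le_normalizerIn hES hg
    rw [show eN g = ⟨((inE g hg : E) : Ω), hm⟩ from Subtype.ext (heN' g)]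
    exact hγ₀E (inE g hg) hm
  -- a power of order prime to `p`
  haveI : Finite (MulAut N) := Finite.of_injective (fun a : MulAut N => (a : N → N)) DFunLike.coe_injective
  obtain ⟨a, b, hb, hab'⟩ := Nat.exists_eq_pow_mul_and_not_dvd (orderOf_pos γ₁).ne' p hp.out.ne_one
  set γ := γ₁ ^ p ^ a with hγdef
  have hγcop : (orderOf γ).Coprime p := by
    rw [hγdef, orderOf_pow' γ₁ (pow_ne_zero a hp.out.ne_zero), hab', Nat.gcd_mul_right_left,
      Nat.mul_div_cancel_left _ (pow_pos hp.out.pos a)]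
    exact (hp.out.coprime_iff_not_dvd.2 hb).symm
  have hγmod : ∀ g : N, g⁻¹ * γ g ∈ EN := cosetStab_pow_mem hγ₁mod _
  have hpowE : ∀ (j : ℕ) (g : N) (hg : g ∈ EN),
      ((((γ₁ ^ j) g : N) : ↥S) : Ω) = ((τ ^ j) (inE g hg) : Ω) := by
    intro j
    induction j with
    | zero => intro g hg; rfl
    | succ j ih =>
      intro g hg
      have hg1 : γ₁ g ∈ EN := by
        show (((γ₁ g : N) : ↥S) : Ω) ∈ E
        rw [hγ₁E g hg]
        exact SetLike.coe_mem _
      rw [pow_succ, pow_succ, MulAut.mul_apply, MulAut.mul_apply, ih _ hg1,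
        show inE (γ₁ g) hg1 = τ (inE g hg) from Subtype.ext (hγ₁E g hg)]
  have hγE : ∀ (g : N) (hg : g ∈ EN), (((γ g : N) : ↥S) : Ω) = (τ (inE g hg) : Ω) := fun g hg => by
    rw [hγdef, hpowE _ g hg]
    obtain ⟨q, hq⟩ : Odd (p ^ a) := (hp.out.odd_of_ne_two hp2).pow
    have h2 : τ ^ 2 = 1 := MulEquiv.ext fun v => by rw [sq, MulAut.mul_apply]; exact hττ v
    rw [hq, pow_succ, pow_mul, h2, one_pow, one_mul]
  have hγγ : ∀ g : N, γ (γ g) = g := by
    have hcop2 : (orderOf (γ * γ)).Coprime p :=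
      hγcop.coprime_dvd_left (by rw [← sq]; exact orderOf_pow_dvd 2)
    have hfixE : ∀ g ∈ EN, (γ * γ) g = g := fun g hg => by
      have hg1 : γ g ∈ EN := by
        show (((γ g : N) : ↥S) : Ω) ∈ E
        rw [hγE g hg]
        exact SetLike.coe_mem _
      apply Subtype.ext; apply Subtype.ext
      rw [MulAut.mul_apply, hγE _ hg1, show inE (γ g) hg1 = τ (inE g hg) from Subtype.ext (hγE g hg),
        hττ]
    intro g
    have hstep : g⁻¹ * (γ * γ) g ∈ EN := by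
      have := cosetStab_pow_mem hγmod 2 g
      rwa [sq] at this
    exact fix_of_step (γ * γ) hcop2 g (hfixE _ hstep)
      (((h.isPGroup).to_subgroup N) _)
  have hγaut : MulAut.congr eN γ ∈ F.autGroup (normalizerIn S E) := by
    rw [hγdef, map_pow]
    refine Subgroup.pow_mem _ ?_ _
    rw [hγ₁, MulEquiv.apply_symm_apply]
    exact hγ₀
  set φ : normalizerIn S E →* Ω := autHom (MulAut.congr eN γ) with hφ
  have hφF : φ ∈ F.Hom (normalizerIn S E) := autGroup_hom_mem (normalizerIn_le E) hγaut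
  have hφv : ∀ g : N, φ (eN g) = (((γ g : N) : ↥S) : Ω) := fun g => by
    show (eN (γ (eN.symm (eN g))) : Ω) = _
    rw [eN.symm_apply_apply, heN']
  -- `γ` preserves `Z1`
  have hγZ1 : ∀ g : N, (g : ↥S) ∈ Z1 → ((γ g : N) : ↥S) ∈ Z1 := fun g hg => by
    refine ⟨Subgroup.mem_centralizer_iff.2 fun y hy => ?_, ?_⟩
    · have h1 : γ ⟨y, hy⟩ * g = g * γ ⟨y, hy⟩ := Subtype.ext (hZ1N _ hg _ (γ ⟨y, hy⟩).2)
      have h2 := congrArg γ h1
      rw [map_mul, map_mul, hγγ] at h2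
      exact congrArg Subtype.val h2
    · show (((γ g : N) : ↥S) : Ω) ∈ E
      rw [hγE g hg.2]
      exact SetLike.coe_mem _
  have hZ1Q : Z1 ≤ Q := hQE.ge.trans inf_le_left
  -- `γ` preserves `Q`
  have hγQ : ∀ g : N, (g : ↥S) ∈ Q → ((γ g : N) : ↥S) ∈ Q := by
    set M : Subgroup ↥S := ((Q.subgroupOf N).map γ.toMonoidHom).map N.subtype with hM
    suffices hMQ : M = Q by
      intro g hg
      exact hMQ.le ⟨γ g, ⟨g, hg, rfl⟩, rfl⟩
    by_contra hMne
    have hMN : M ≤ N := Subgroup.map_subtype_le _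
    have hMc : Nat.card M = p ^ 3 := by
      rw [hM, Subgroup.card_map_of_injective N.subtype_injective,
        Subgroup.card_map_of_injective γ.injective,
        Nat.card_congr (Subgroup.subgroupOfEquivOfLe hQN).toEquiv, hQc]
    have hMZ : Z1 ≤ M := fun w hw => by
      have hw' : w ∈ N := hEN hw.2
      exact ⟨⟨w, hw'⟩, ⟨γ ⟨w, hw'⟩, hZ1Q (hγZ1 ⟨w, hw'⟩ hw), hγγ _⟩, rfl⟩
    obtain ⟨x, hxE, hxZ⟩ := SetLike.exists_of_lt (show Z1 < Es from
      lt_of_le_of_ne inf_le_right fun e => by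
        rw [e, hEsc] at hZ1c
        exact absurd (Nat.pow_right_injective hp.out.two_le hZ1c) (by omega))
    have hxQ : x ∉ Q := fun hxQ => hxZ (hQE.le ⟨hxQ, hxE⟩)
    have hup : u₀ ^ p ∈ Z1 := by
      haveI : (Z1.subgroupOf Q).Normal := ⟨fun w hw g => by
        show ((g * w * g⁻¹ : Q) : ↥S) ∈ Z1
        rw [Subgroup.coe_mul, Subgroup.coe_mul, hZ1N (w : ↥S) hw _ (hQN g.2), Subgroup.coe_inv,
          mul_inv_cancel_right]
        exact hw⟩
      have hidx : (Z1.subgroupOf Q).index = p := by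
        have h2 := Subgroup.card_mul_index (Z1.subgroupOf Q)
        rw [Nat.card_congr (Subgroup.subgroupOfEquivOfLe hZ1Q).toEquiv, hZ1c, hQc] at h2
        exact Nat.eq_of_mul_eq_mul_left (pow_pos hp.out.pos 2) (h2.trans (pow_succ p 2))
      have := Subgroup.pow_index_mem (Z1.subgroupOf Q) (⟨u₀, hu₀Q⟩ : Q)
      rw [hidx] at this
      exact this
    have hQgen : Z1 ⊔ Subgroup.zpowers u₀ = Q := by
      refine Subgroup.eq_of_le_of_card_ge (sup_le hZ1Q (Subgroup.zpowers_le.2 hu₀Q)) ?_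
      refine le_trans (le_of_eq ?_) (h.card_lt_card_mul (lt_of_le_of_ne (le_sup_left : Z1 ≤ _)
        fun e => hu₀E (inf_le_right (a := Subgroup.centralizer (N : Set ↥S))
          (e.ge (Subgroup.mem_sup_right (Subgroup.mem_zpowers u₀))))))
      rw [hZ1c, hQc, ← pow_succ]
    have hkey : ∀ K : Subgroup ↥S, K ≤ N → Z1 ≤ K → Nat.card K = p ^ 3 → K ≠ Q →
        ∃ j : Fin p, K = Z1 ⊔ Subgroup.zpowers (u₀ ^ (j : ℕ) * x) := by
      intro K hKN hKZ hKc hKQ
      have hjoin : Q ⊔ K = N := by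
        refine Subgroup.eq_of_le_of_card_ge (sup_le hQN hKN) ?_
        refine le_trans (le_of_eq ?_) (h.card_lt_card_mul (lt_of_le_of_ne (le_sup_left : Q ≤ Q ⊔ K)
          fun e => hKQ (Subgroup.eq_of_le_of_card_ge (e ▸ le_sup_right) (by rw [hKc, hQc]))))
        rw [hN4, hQc, ← pow_succ]
      obtain ⟨q, hq, k, hk, hqk⟩ := Subgroup.mem_sup_of_normal_left.1
        (hjoin.ge (hEN hxE) : x ∈ Q ⊔ K)
      have hk' : q⁻¹ * x ∈ K := by rw [← hqk, inv_mul_cancel_left]; exact hk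
      haveI hZn : (Z1.subgroupOf N).Normal := ⟨fun w hw g => by
        show ((g * w * g⁻¹ : N) : ↥S) ∈ Z1
        rw [Subgroup.coe_mul, Subgroup.coe_mul, hZ1N (w : ↥S) hw _ g.2, Subgroup.coe_inv,
          mul_inv_cancel_right]
        exact hw⟩
      obtain ⟨z, hz, j, hzj⟩ : ∃ z ∈ Z1, ∃ j : ℤ, z * u₀ ^ j = q⁻¹ := by
        have hq' : q⁻¹ ∈ Z1 ⊔ Subgroup.zpowers u₀ := hQgen.ge (Q.inv_mem hq)
        have hle : Subgroup.zpowers u₀ ≤ Subgroup.normalizer (Z1 : Set ↥S) :=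
          Subgroup.zpowers_le.2 (le_normalizer_of_comm (K := N) (fun g hg w hw => by
            rw [commutatorElement_eq_one_iff_mul_comm.2 (hZ1N w hw g hg)]
            exact Z1.one_mem) (hQN hu₀Q))
        have : q⁻¹ ∈ ((Z1 ⊔ Subgroup.zpowers u₀ : Subgroup ↥S) : Set ↥S) := hq'
        rw [Subgroup.coe_mul_of_right_le_normalizer_left Z1 _ hle] at this
        obtain ⟨z, hz, w, hw, hzw⟩ := this
        obtain ⟨j, rfl⟩ := Subgroup.mem_zpowers_iff.1 hw
        exact ⟨z, hz, j, hzw⟩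
      have hpp : (0 : ℤ) < p := by exact_mod_cast hp.out.pos
      set i : ℕ := (j % (p : ℤ)).toNat with hi
      have hilt : i < p := by
        have h1 := Int.emod_lt_of_pos j hpp
        have h2 := Int.emod_nonneg j hpp.ne'
        omega
      have hiK : u₀ ^ i * x ∈ K := by
        have h2 : (i : ℤ) = j % (p : ℤ) := Int.toNat_of_nonneg (Int.emod_nonneg j hpp.ne')
        have hju : u₀ ^ i = (u₀ ^ p) ^ (-(j / (p : ℤ))) * u₀ ^ j := by
          rw [← zpow_natCast u₀ i, h2, ← zpow_natCast u₀ p, ← zpow_mul, ← zpow_add]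
          congr 1
          rw [Int.emod_def]; ring
        rw [hju, mul_assoc]
        refine K.mul_mem (hKZ (Z1.zpow_mem hup _)) ?_
        rw [← hzj, mul_assoc] at hk'
        simpa using K.mul_mem (K.inv_mem (hKZ hz)) hk'
      refine ⟨⟨i, hilt⟩, (Subgroup.eq_of_le_of_card_ge
        (sup_le hKZ (Subgroup.zpowers_le.2 hiK)) ?_).symm⟩
      refine le_trans (le_of_eq ?_) (h.card_lt_card_mul (lt_of_le_of_ne (le_sup_left : Z1 ≤ _)
        fun e => hxQ ?_))
      · rw [hZ1c, hKc, ← pow_succ]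
      · have h3 : u₀ ^ i * x ∈ Q := hZ1Q (e.ge (Subgroup.mem_sup_right (Subgroup.mem_zpowers _)))
        simpa using Q.mul_mem (Q.inv_mem (Q.pow_mem hu₀Q i)) h3
    have hconjE : ∀ i : Fin p, ∃ j : Fin p, Es.map (MulAut.conj (s ^ (i : ℕ))).toMonoidHom =
        Z1 ⊔ Subgroup.zpowers (u₀ ^ (j : ℕ) * x) := by
      intro i
      have hsi : s ^ (i : ℕ) ∈ Subgroup.normalizer (N : Set ↥S) := Subgroup.pow_mem _ hs _
      refine hkey _ (hmapN _ hsi) (fun w hw => ?_) (hcard_conj _) (fun e => hQnle ?_)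
      · have hinv := Subgroup.inv_mem _ hsi
        refine ⟨(s ^ (i : ℕ))⁻¹ * w * s ^ (i : ℕ), hC (Subgroup.mem_centralizer_iff.2 fun y hy => ?_),
          by simp [mul_assoc, -map_pow]⟩
        have h1 := hZ1N w hw _ (hconjN y (hEN hy) _ hsi)
        calc y * ((s ^ (i : ℕ))⁻¹ * w * s ^ (i : ℕ))
            = (s ^ (i : ℕ))⁻¹ * (s ^ (i : ℕ) * y * (s ^ (i : ℕ))⁻¹ * w) * s ^ (i : ℕ) := by group
          _ = (s ^ (i : ℕ))⁻¹ * (w * (s ^ (i : ℕ) * y * (s ^ (i : ℕ))⁻¹)) * s ^ (i : ℕ) := by rw [h1]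
          _ = (s ^ (i : ℕ))⁻¹ * w * s ^ (i : ℕ) * y := by group
      · intro q hq
        have h1 : s ^ (i : ℕ) * q * (s ^ (i : ℕ))⁻¹ ∈ Es.map (MulAut.conj (s ^ (i : ℕ))).toMonoidHom :=
          e.ge ((inferInstance : Q.Normal).conj_mem q hq _)
        obtain ⟨y, hy, hye⟩ := h1
        have : y = q := (MulAut.conj (s ^ (i : ℕ))).injective (by simpa [-map_pow] using hye)
        exact this ▸ hy
    choose J hJ using hconjE
    have hdiff : ∀ d : ℕ, 0 < d → d < p → s ^ d ∉ N := by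
      intro d hd hdp hmem
      refine hsN ?_
      obtain ⟨e, he⟩ := h.isPGroup s
      have hcop : d.Coprime (p ^ e) := Nat.Coprime.pow_right _
        ((hp.out.coprime_iff_not_dvd.2 fun hdvd =>
          absurd (Nat.le_of_dvd hd hdvd) (by omega)).symm)
      have := pow_mem_of_coprime (H := N) (x := s) hcop hmem
        (by rw [he]; exact N.one_mem : s ^ (p ^ e) ∈ N)
      exact this
    have hJinj : Function.Injective J := fun i i' hii => by
      have heq := (hJ i).trans ((congrArg (fun j : Fin p => Z1 ⊔ Subgroup.zpowers (u₀ ^ (j : ℕ) * x))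
        hii).trans (hJ i').symm)
      rcases lt_trichotomy (i : ℕ) i' with hlt' | hlt' | hlt'
      · refine absurd (hconj_eq (s ^ ((i' : ℕ) - i)) ?_) (hdiff _ (by omega) (by omega))
        have hcomp : ∀ a b : ↥S, Es.map (MulAut.conj (a * b)).toMonoidHom =
            (Es.map (MulAut.conj b).toMonoidHom).map (MulAut.conj a).toMonoidHom := fun a b => by
          rw [Subgroup.map_map, map_mul]; rfl
        apply Subgroup.map_injective (f := (MulAut.conj (s ^ (i : ℕ))).toMonoidHom)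
          (MulAut.conj _).injective
        rw [← hcomp, ← pow_add, show (i : ℕ) + ((i' : ℕ) - i) = i' by omega]
        exact heq.symm
      · exact Fin.ext hlt'
      · refine absurd (hconj_eq (s ^ ((i : ℕ) - i')) ?_) (hdiff _ (by omega) (by omega))
        have hcomp : ∀ a b : ↥S, Es.map (MulAut.conj (a * b)).toMonoidHom =
            (Es.map (MulAut.conj b).toMonoidHom).map (MulAut.conj a).toMonoidHom := fun a b => by
          rw [Subgroup.map_map, map_mul]; rfl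
        apply Subgroup.map_injective (f := (MulAut.conj (s ^ (i' : ℕ))).toMonoidHom)
          (MulAut.conj _).injective
        rw [← hcomp, ← pow_add, show (i' : ℕ) + ((i : ℕ) - i') = i by omega]
        exact heq
    obtain ⟨jM, hjM⟩ := hkey M hMN hMZ hMc hMne
    obtain ⟨i, hi⟩ := (Finite.injective_iff_surjective.1 hJinj) jM
    have hME : M = Es.map (MulAut.conj (s ^ (i : ℕ))).toMonoidHom := by rw [hjM, ← hi, ← hJ i]
    have hconjEM : F.IsConj E (M.map S.subtype) := by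
      refine ⟨conjHom E ((s ^ (i : ℕ) : ↥S) : Ω), F.conj_mem hES (s ^ (i : ℕ)).2, ?_⟩
      rw [hME]
      ext y
      constructor
      · rintro ⟨z, rfl⟩
        exact ⟨s ^ (i : ℕ) * ⟨z, hES z.2⟩ * (s ^ (i : ℕ))⁻¹, ⟨⟨z, hES z.2⟩, z.2, rfl⟩, rfl⟩
      · rintro ⟨_, ⟨z, hz, rfl⟩, rfl⟩
        exact ⟨⟨z, hz⟩, rfl⟩
    have hQNΩ : Q.map S.subtype ≤ normalizerIn S E := hNmap ▸ Subgroup.map_mono hQN
    have hconjQM : F.IsConj (Q.map S.subtype) (M.map S.subtype) := by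
      refine ⟨φ.comp (Subgroup.inclusion hQNΩ), restrict_mem hφF hQNΩ, ?_⟩
      ext y
      constructor
      · rintro ⟨⟨_, z, hz, rfl⟩, rfl⟩
        refine ⟨(γ ⟨z, hQN hz⟩ : N), ⟨γ ⟨z, hQN hz⟩, ⟨⟨z, hQN hz⟩, hz, rfl⟩, rfl⟩, ?_⟩
        rw [MonoidHom.comp_apply, show Subgroup.inclusion hQNΩ ⟨S.subtype z, z, hz, rfl⟩ =
          eN ⟨z, hQN hz⟩ from Subtype.ext (heN' ⟨z, hQN hz⟩).symm, hφv]
        rfl
      · rintro ⟨_, ⟨_, ⟨z, hz, rfl⟩, rfl⟩, rfl⟩
        refine ⟨⟨S.subtype z, z, hz, rfl⟩, ?_⟩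
        rw [MonoidHom.comp_apply, show Subgroup.inclusion hQNΩ ⟨S.subtype z, z, hz, rfl⟩ =
          eN z from Subtype.ext (heN' z).symm, hφv]
        rfl
    have hle := hfn.2 _ (isConj_trans hconjEM (isConj_symm hconjQM))
    have hQnorm : normalizerIn S (Q.map S.subtype) = S :=
      le_antisymm inf_le_left (le_inf le_rfl fun g hg => mem_normalizer_map (⟨g, hg⟩ : ↥S))
    rw [hQnorm, ← hNmap, card_map_subtype, hN4, h.card,
      Nat.pow_le_pow_iff_right hp.out.one_lt] at hle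
    omega
  -- the restriction to `Q`
  let toN : Q → N := fun q => ⟨q, hQN q.2⟩
  let α : MulAut Q :=
    { toFun := fun q => ⟨γ (toN q), hγQ _ q.2⟩
      invFun := fun q => ⟨γ (toN q), hγQ _ q.2⟩
      left_inv := fun q => Subtype.ext (congrArg (fun w : N => (w : ↥S)) (hγγ (toN q)))
      right_inv := fun q => Subtype.ext (congrArg (fun w : N => (w : ↥S)) (hγγ (toN q)))
      map_mul' := fun q q' => Subtype.ext (congrArg (fun w : N => (w : ↥S))
        (map_mul γ (toN q) (toN q'))) }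
  have hαv : ∀ q : Q, ((α q : Q) : ↥S) = ((γ (toN q) : N) : ↥S) := fun q => rfl
  have hQab : ∀ a b : Q, a * b = b * a := by
    intro a b
    have hQgen : Z1 ⊔ Subgroup.zpowers u₀ = Q := by
      refine Subgroup.eq_of_le_of_card_ge (sup_le hZ1Q (Subgroup.zpowers_le.2 hu₀Q)) ?_
      refine le_trans (le_of_eq ?_) (h.card_lt_card_mul (lt_of_le_of_ne (le_sup_left : Z1 ≤ _)
        fun e => hu₀E (inf_le_right (a := Subgroup.centralizer (N : Set ↥S))
          (e.ge (Subgroup.mem_sup_right (Subgroup.mem_zpowers u₀))))))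
      rw [hZ1c, hQc, ← pow_succ]
    have hle : Q ≤ Subgroup.centralizer (Q : Set ↥S) := by
      conv_lhs => rw [← hQgen]
      refine sup_le (fun w hw => Subgroup.mem_centralizer_iff.2 fun y hy => hZ1N w hw y (hQN hy))
        (Subgroup.zpowers_le.2 (Subgroup.mem_centralizer_iff.2 fun y hy => ?_))
      have hle2 : Q ≤ Subgroup.centralizer ({u₀} : Set ↥S) := by
        conv_lhs => rw [← hQgen]
        exact sup_le (fun w hw => Subgroup.mem_centralizer_singleton_iff.2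
          (hZ1N w hw u₀ (hQN hu₀Q)).symm) (Subgroup.zpowers_le.2
            (Subgroup.mem_centralizer_singleton_iff.2 rfl))
      exact Subgroup.mem_centralizer_singleton_iff.1 (hle2 hy)
    exact Subtype.ext (Subgroup.mem_centralizer_iff.1 (hle b.2) a a.2)
  set cQ : Q := ⟨cS, hcSQ⟩ with hcQ
  have hcEN : toN cQ ∈ EN := c.2
  have hαc : α cQ = cQ⁻¹ := by
    apply Subtype.ext; apply Subtype.ext
    rw [hαv, hγE _ hcEN, show inE (toN cQ) hcEN = c from rfl, hτc']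
    rfl
  have hαα : ∀ q, α (α q) = q := fun q => Subtype.ext (congrArg (fun w : N => (w : ↥S)) (hγγ (toN q)))
  refine ⟨α, ?_, cQ, hcS3, hαc, ?_, hαα, hQab, hcS2,
    fun e => hx₀ (Subtype.ext (congrArg (fun w : Q => ((w : ↥S) : Ω)) e)), Subtype.ext (Subtype.ext ?_)⟩
  · have hQNΩ : Q.map S.subtype ≤ normalizerIn S E := hNmap ▸ Subgroup.map_mono hQN
    show MulAut.congr (toAmbient Q) α ∈ F.autGroup (Q.map S.subtype)
    refine (mem_autGroup (Subgroup.map_subtype_le Q)).2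
      (mem_congr (restrict_mem hφF hQNΩ) fun y => ?_)
    obtain ⟨q, rfl⟩ := (toAmbient Q).surjective y
    have hincl : Subgroup.inclusion hQNΩ (toAmbient Q q) = eN (toN q) :=
      Subtype.ext ((toAmbient_apply Q q).trans (heN' (toN q)).symm)
    rw [autHom_apply, congr_apply_coe, hαv, MonoidHom.comp_apply, hincl, hφv]
  swap
  · rw [SubmonoidClass.coe_pow, SubmonoidClass.coe_pow]
    exact congrArg Subtype.val (hexp c)
  intro q
  -- `Q = Z1 ⟨v⟩` with `v` fixed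
  set v : Q := ⟨u₀, hu₀Q⟩ * α ⟨u₀, hu₀Q⟩ with hv
  have hαfix : α v = v := by rw [hv, map_mul, hαα, hQab]
  have hvE : (v : ↥S) ∉ Es := by
    intro hvm
    have hmod : (u₀ : ↥S)⁻¹ * ((α ⟨u₀, hu₀Q⟩ : Q) : ↥S) ∈ Es := hγmod (toN ⟨u₀, hu₀Q⟩)
    have hm : ((u₀⁻¹ * ((α ⟨u₀, hu₀Q⟩ : Q) : ↥S)) : ↥S) ∈ Z1 :=
      hQE.le ⟨Q.mul_mem (Q.inv_mem hu₀Q) (α ⟨u₀, hu₀Q⟩).2, hmod⟩
    have h2 : u₀ ^ 2 ∈ Es := by
      have he : u₀ ^ 2 = (v : ↥S) * (u₀⁻¹ * ((α ⟨u₀, hu₀Q⟩ : Q) : ↥S))⁻¹ := by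
        rw [hv, Subgroup.coe_mul, sq]; group
      rw [he]; exact Es.mul_mem hvm (Es.inv_mem hmod)
    refine hu₀E ?_
    obtain ⟨e, he⟩ := h.isPGroup u₀
    have hcop : Nat.Coprime 2 (p ^ e) :=
      Nat.Coprime.pow_right _ ((Nat.coprime_primes Nat.prime_two hp.out).2 (Ne.symm hp2))
    have := pow_mem_of_coprime (H := Es) (x := u₀) hcop h2
      (by rw [he]; exact Es.one_mem : u₀ ^ (p ^ e) ∈ Es)
    exact this
  set Z1Q : Subgroup Q := Z1.subgroupOf Q
  have hgen : Z1Q ⊔ Subgroup.zpowers v = ⊤ := by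
    refine Subgroup.eq_top_of_le_card _ ?_
    have hlt' : Z1Q < Z1Q ⊔ Subgroup.zpowers v := lt_of_le_of_ne le_sup_left fun e => hvE
      (inf_le_right (a := Subgroup.centralizer (N : Set ↥S))
        (e.ge (Subgroup.mem_sup_right (Subgroup.mem_zpowers v)) : v ∈ Z1Q))
    have hcZ : Nat.card Z1Q = p ^ 2 := by
      rw [Nat.card_congr (Subgroup.subgroupOfEquivOfLe hZ1Q).toEquiv, hZ1c]
    obtain ⟨i, hi⟩ := IsPGroup.iff_card.mp ((h.isPGroup.to_subgroup Q).to_subgroup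
      (Z1Q ⊔ Subgroup.zpowers v))
    have : Nat.card Z1Q < Nat.card ↥(Z1Q ⊔ Subgroup.zpowers v) :=
      lt_of_le_of_ne (Subgroup.card_le_of_le hlt'.le) fun e =>
        hlt'.ne (Subgroup.eq_of_le_of_card_ge hlt'.le e.ge)
    rw [hcZ, hi, Nat.pow_lt_pow_iff_right hp.out.one_lt] at this
    rw [hQc, hi]
    exact Nat.pow_le_pow_right hp.out.pos this
  let φd : Q →* Q := MonoidHom.mk' (fun q => α q * q⁻¹) fun a b => by
    rw [map_mul, mul_inv_rev, hQab b⁻¹ a⁻¹, ← mul_assoc, mul_assoc (α a), hQab (α b) a⁻¹,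
      ← mul_assoc, mul_assoc (α a * a⁻¹)]
  suffices hle : (⊤ : Subgroup Q) ≤ (Subgroup.zpowers cQ).comap φd from hle (Subgroup.mem_top q)
  rw [← hgen]
  refine sup_le (fun w hw => ?_) (Subgroup.zpowers_le.2 ?_)
  · have hwE : toN w ∈ EN := hw.2
    have hrw : r (inE _ hwE) = inE _ hwE := hfixZ _ ⟨(w : ↥S), hw, rfl⟩
    obtain ⟨j, hj⟩ := Subgroup.mem_zpowers_iff.1 (hτfix' _ hrw)
    refine Subgroup.mem_zpowers_iff.2 ⟨j, ?_⟩
    apply Subtype.ext; apply Subtype.ext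
    show (((cQ ^ j : Q) : ↥S) : Ω) = (((α w * w⁻¹ : Q) : ↥S) : Ω)
    rw [Subgroup.coe_mul, Subgroup.coe_mul, hαv, hγE _ hwE, SubgroupClass.coe_zpow,
      SubgroupClass.coe_zpow]
    exact (SubgroupClass.coe_zpow c j).symm.trans (congrArg Subtype.val hj)
  · rw [Subgroup.mem_comap, show φd v = α v * v⁻¹ from rfl]
    rw [hαfix, mul_inv_cancel]; exact Subgroup.one_mem _

end Cfsg.Agent.Lib.Fusion87
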