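import Cfsg.Agent.Lib.Fusion87.AbelianInvariants
import Cfsg.Agent.Lib.TwoClass.Classify
import Cfsg.Agent.Lib.Core.Nilpotent
import Cfsg.Prelude.Def_OddOrderLocal
import Cfsg.Prelude.Def_CaseTheorems

/-!
Characteristic series with cyclic steps in metacyclic `p`-groups.
-/

set_option autoImplicit false
set_option linter.style.haveILetI false

namespace Cfsg.Agent.Lib.Fusion87.Metacyclic

open Cfsg Cfsg.Agent.Lib.Fusion87

variable {S : Type*} [Group S]

/-- A step: both subgroups are invariant under all automorphisms, the quotient is cyclic. -/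
def CStep (A B : Subgroup S) : Prop :=
  A ≤ B ∧ (∀ (a : MulAut S), ∀ y ∈ A, a y ∈ A) ∧ (∀ (a : MulAut S), ∀ y ∈ B, a y ∈ B) ∧
    ∃ y₀ ∈ B, ∀ y ∈ B, ∃ k : ℤ, (y₀ ^ k)⁻¹ * y ∈ A

/-- A chain of steps from `A` to `B`. -/
def CReach : Subgroup S → Subgroup S → Prop := Relation.ReflTransGen CStep

theorem normal_of_invariant {A : Subgroup S} (h : ∀ (a : MulAut S), ∀ y ∈ A, a y ∈ A) : A.Normal :=
  ⟨fun y hy g => h (MulAut.conj g) y hy⟩

theorem exists_chain_of_reach (h : CReach (⊥ : Subgroup S) ⊤) :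
    ∃ C : CyclicChain S, ∀ (a : MulAut S) (i : ℕ), ∀ y ∈ C.K i, a y ∈ C.K i := by
  suffices H : ∀ B, CReach (⊥ : Subgroup S) B → ∃ (n : ℕ) (K : ℕ → Subgroup S),
      K 0 = ⊥ ∧ K n = B ∧ (∀ i, n ≤ i → K i = B) ∧ (∀ i < n, CStep (K i) (K (i + 1))) by
    obtain ⟨n, K, h0, hn, hge, hst⟩ := H ⊤ h
    have hinv : ∀ (a : MulAut S) (i : ℕ), ∀ y ∈ K i, a y ∈ K i := by
      intro a i y hy
      rcases Nat.lt_or_ge i n with hi | hi
      · exact (hst i hi).2.1 a y hy
      · rw [hge i hi]; exact Subgroup.mem_top _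
    refine ⟨⟨n, K, h0, hn, fun i => ?_, fun i => normal_of_invariant fun a => hinv a i,
      fun i => ?_⟩, hinv⟩
    · rcases Nat.lt_or_ge i n with hi | hi
      · exact (hst i hi).1
      · rw [hge i hi, hge (i + 1) (by omega)]
    · rcases Nat.lt_or_ge i n with hi | hi
      · exact (hst i hi).2.2.2
      · refine ⟨1, one_mem _, fun y _ => ⟨0, ?_⟩⟩
        rw [hge i hi]
        exact Subgroup.mem_top _
  intro B hB
  induction hB with
  | refl => exact ⟨0, fun _ => ⊥, rfl, rfl, fun _ _ => rfl, fun i hi => absurd hi (Nat.not_lt_zero i)⟩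
  | @tail B B' _ hs ih =>
    obtain ⟨n, K, h0, hn, hge, hst⟩ := ih
    refine ⟨n + 1, fun i => if i ≤ n then K i else B', by simp [h0], by simp,
      fun i hi => if_neg (by omega), fun i hi => ?_⟩
    simp only
    rcases Nat.lt_or_ge i n with hin | hin
    · rw [if_pos hin.le, if_pos (show i + 1 ≤ n by omega)]
      exact hst i hin
    · obtain rfl : i = n := by omega
      rw [if_pos le_rfl, if_neg (by omega), hn]
      exact hs

/-- The automorphism induced on the image of an invariant subgroup. -/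
theorem exists_induced_aut {V : Type*} [Group V] (q : S →* V) (hq : Function.Surjective q)
    (hker : ∀ (a : MulAut S), ∀ y, q y = 1 → q (a y) = 1) (U : Subgroup V) [Finite U]
    (hU : ∀ (a : MulAut S), ∀ y, q y ∈ U → q (a y) ∈ U) (a : MulAut S) :
    ∃ b : MulAut U, ∀ (y : S) (hy : q y ∈ U), (b ⟨q y, hy⟩ : V) = q (a y) := by
  have hw : ∀ y y', q y = q y' → q (a y) = q (a y') := fun y y' h => by
    have := hker a (y⁻¹ * y') (by rw [map_mul, map_inv, h, inv_mul_cancel])
    rwa [map_mul, map_mul, map_inv, map_inv, inv_mul_eq_one] at this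
  choose σ hσ using hq
  let f : U →* U := MonoidHom.mk' (fun u => ⟨q (a (σ u)), hU a _ (by rw [hσ]; exact u.2)⟩)
    fun u v => Subtype.ext (by
      show q (a (σ ((u : V) * v))) = q (a (σ u)) * q (a (σ v))
      rw [← map_mul, ← map_mul]
      exact hw _ _ (by rw [hσ, map_mul, hσ, hσ]))
  have hf : Function.Injective f := by
    refine (injective_iff_map_eq_one f).2 fun u hu => Subtype.ext ?_
    have h1 : q (a (σ u)) = 1 := congrArg Subtype.val hu
    have := hker a⁻¹ _ h1
    rwa [MulAut.inv_apply_self, hσ] at this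
  exact ⟨MulEquiv.ofBijective f (Finite.injective_iff_bijective.1 hf),
    fun y hy => hw _ _ (hσ (q y))⟩

/-- Pulling back a characteristic chain of an abelian section. -/
theorem reach_comap {p : ℕ} [Fact p.Prime] {V : Type*} [CommGroup V] [Finite V] (hV : IsPGroup p V)
    (q : S →* V) (hq : Function.Surjective q)
    (hker : ∀ (a : MulAut S), ∀ y, q y = 1 → q (a y) = 1) (U : Subgroup V)
    (hU : ∀ (a : MulAut S), ∀ y, q y ∈ U → q (a y) ∈ U) (hlay : HasCyclicLayers p U) :
    CReach q.ker (U.comap q) := by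
  obtain ⟨C, hC⟩ := exists_charChain (hV.to_subgroup U) hlay
  set L : ℕ → Subgroup S := fun i => ((C.K i).map U.subtype).comap q with hL
  have hinv : ∀ i, ∀ (a : MulAut S), ∀ y ∈ L i, a y ∈ L i := by
    rintro i a y ⟨u, hu, hue⟩
    obtain ⟨b, hb⟩ := exists_induced_aut q hq hker U hU a
    have hyU : q y ∈ U := hue ▸ u.2
    refine ⟨b ⟨q y, hyU⟩, hC b i _ ?_, hb y hyU⟩
    rwa [show (⟨q y, hyU⟩ : U) = u from Subtype.ext hue.symm]
  have hstep : ∀ i, CStep (L i) (L (i + 1)) := by
    intro i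
    refine ⟨Subgroup.comap_mono (Subgroup.map_mono (C.le i)), hinv i, hinv (i + 1), ?_⟩
    obtain ⟨u₀, hu₀, hu⟩ := C.step i
    obtain ⟨y₀, hy₀⟩ := hq (u₀ : V)
    refine ⟨y₀, ⟨u₀, hu₀, hy₀.symm⟩, ?_⟩
    rintro y ⟨u, huK, hue⟩
    obtain ⟨k, hk⟩ := hu u huK
    refine ⟨k, (u₀ ^ k)⁻¹ * u, hk, ?_⟩
    rw [map_mul, map_mul, map_inv, map_inv, map_zpow, map_zpow, hy₀, hue]
    rfl
  have h : ∀ n, CReach (L 0) (L n) := fun n => by
    induction n with
    | zero => exact Relation.ReflTransGen.refl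
    | succ n ih => exact ih.tail (hstep n)
  have h0 : L 0 = q.ker := by
    show ((C.K 0).map U.subtype).comap q = q.ker
    rw [C.bot]; simp
  have hn : L C.n = U.comap q := by
    show ((C.K C.n).map U.subtype).comap q = U.comap q
    rw [C.top]; simp [← MonoidHom.range_eq_map]
  rw [← h0, ← hn]
  exact h C.n

theorem pow_of_central {c x y : S} (hcx : c * x = x * c) (hcy : c * y = y * c)
    (hc : y * x = c * (x * y)) (m : ℕ) : (x * y) ^ m = c ^ m.choose 2 * (x ^ m * y ^ m) := by
  have hyx : ∀ j : ℕ, y ^ j * x = c ^ j * (x * y ^ j) := by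
    intro j
    induction j with
    | zero => simp
    | succ j ih =>
      rw [pow_succ' y, mul_assoc, ih, ← mul_assoc, ((show Commute c y from hcy).pow_left j).symm.eq,
        mul_assoc, ← mul_assoc y x, hc, mul_assoc c, ← mul_assoc, mul_assoc x, ← pow_succ, ← pow_succ']
  induction m with
  | zero => simp
  | succ m ih =>
    rw [pow_succ, ih, mul_assoc, mul_assoc, show y ^ m * (x * y) = (y ^ m * x) * y by rw [mul_assoc],
      hyx, show (m + 1).choose 2 = m.choose 2 + m by
        rw [Nat.choose_succ_succ, Nat.choose_one_right]; ring, pow_add c]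
    have hcxm : x ^ m * c ^ m = c ^ m * x ^ m := ((show Commute c x from hcx).pow_pow m m).symm.eq
    calc c ^ m.choose 2 * (x ^ m * (c ^ m * (x * y ^ m) * y))
        = c ^ m.choose 2 * (x ^ m * c ^ m * (x * y ^ m * y)) := by simp [mul_assoc]
      _ = c ^ m.choose 2 * (c ^ m * x ^ m * (x * y ^ m * y)) := by rw [hcxm]
      _ = _ := by simp [mul_assoc, pow_succ]

/-- The elements of exponent dividing `p` in an abelian metacyclic group. -/
theorem card_torsion_le {V : Type*} [CommGroup V] [Finite V] {p : ℕ} [hp : Fact p.Prime]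
    (N : Subgroup V) [IsCyclic N] [IsCyclic (V ⧸ N)] :
    Nat.card {x : V // x ^ p = 1} ≤ p * p := by
  classical
  haveI := Fintype.ofFinite V
  haveI := Fintype.ofFinite (V ⧸ N)
  haveI := Fintype.ofFinite N
  have h1 : ∀ (C : Type _) [Group C] [Fintype C] [IsCyclic C],
      (Finset.univ.filter fun x : C => x ^ p = 1).card ≤ p := by
    intro C _ _ _
    exact IsCyclic.card_pow_eq_one_le hp.out.pos
  rw [Nat.card_eq_fintype_card, Fintype.card_subtype]
  calc (Finset.univ.filter fun x : V => x ^ p = 1).card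
      ≤ p * (Finset.univ.filter fun x : V ⧸ N => x ^ p = 1).card := by
        refine Finset.card_le_mul_card_image_of_maps_to (f := fun x : V => (x : V ⧸ N)) ?_ p ?_
        · intro x hx
          simp only [Finset.mem_filter, Finset.mem_univ, true_and] at hx ⊢
          rw [← QuotientGroup.mk_pow, hx, QuotientGroup.mk_one]
        · intro w _
          rcases (Finset.filter (fun a : V => (a : V ⧸ N) = w) (Finset.univ.filter fun x : V =>
              x ^ p = 1)).eq_empty_or_nonempty with e | ⟨x₀, hx₀⟩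
          · rw [e]; simp
          · simp only [Finset.mem_filter, Finset.mem_univ, true_and] at hx₀
            refine le_trans ?_ (h1 N)
            refine Finset.card_le_card_of_injOn
              (fun x => if h : x₀⁻¹ * x ∈ N then ⟨x₀⁻¹ * x, h⟩ else 1) ?_ ?_
            · intro x hx
              simp only [Finset.mem_coe, Finset.mem_filter, Finset.mem_univ, true_and] at hx ⊢
              have hm : x₀⁻¹ * x ∈ N := QuotientGroup.eq.1 (hx₀.2.trans hx.2.symm)
              simp only [dif_pos hm]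
              exact Subtype.ext (by simp [mul_pow, hx.1, hx₀.1])
            · intro x hx y hy hxy
              simp only [Finset.mem_coe, Finset.mem_filter, Finset.mem_univ, true_and] at hx hy
              have hm : ∀ z : V, (z : V ⧸ N) = w → x₀⁻¹ * z ∈ N := fun z hz =>
                QuotientGroup.eq.1 (hx₀.2.trans hz.symm)
              simp only [dif_pos (hm x hx.2), dif_pos (hm y hy.2)] at hxy
              exact mul_left_cancel (congrArg Subtype.val hxy)
    _ ≤ p * p := Nat.mul_le_mul_left p (by convert h1 (V ⧸ N))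

/-- An abelian metacyclic group has cyclic layers or is homocyclic of rank two. -/
theorem layers_or_homocyclic {V : Type*} [CommGroup V] [Finite V] {p : ℕ} [hp : Fact p.Prime]
    (hV : IsPGroup p V) (N : Subgroup V) [IsCyclic N] [IsCyclic (V ⧸ N)] :
    HasCyclicLayers p V ∨
      ∃ n, 0 < n ∧ Nonempty (V ≃* Multiplicative (ZMod (p ^ n)) × Multiplicative (ZMod (p ^ n))) := by
  rcases hasCyclicLayers_or_repeated hV with h | ⟨n, H, iH, hn, ⟨e⟩⟩
  · exact Or.inl h
  right
  set Z := Multiplicative (ZMod (p ^ n))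
  haveI : Finite ((Z × Z) × H) := Finite.of_equiv _ e.toEquiv
  haveI : Finite H := Finite.of_injective (fun h : H => ((1, h) : (Z × Z) × H))
    (fun a b h => (Prod.ext_iff.1 h).2)
  suffices Subsingleton H by
    refine ⟨n, hn, ⟨e.trans ?_⟩⟩
    haveI : Unique H := uniqueOfSubsingleton 1
    exact MulEquiv.prodUnique
  by_contra hne
  rw [not_subsingleton_iff_nontrivial] at hne
  obtain ⟨h₀, hh₀⟩ : ∃ h : H, orderOf h = p := exists_prime_orderOf_dvd_card' p (by
    obtain ⟨k, hk⟩ := IsPGroup.iff_card.1 ((hV.of_equiv e).of_surjective (MonoidHom.snd _ _)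
      Prod.snd_surjective)
    rw [hk]
    refine dvd_pow_self p fun h0 => ?_
    rw [h0, pow_zero] at hk
    exact not_subsingleton H (Nat.card_eq_one_iff_unique.1 hk).1)
  set z : Z := Multiplicative.ofAdd ((p ^ (n - 1) : ℕ) : ZMod (p ^ n)) with hz
  have hzord : orderOf z = p := by
    refine orderOf_eq_prime ?_ ?_
    · rw [hz, ← ofAdd_nsmul, ← Nat.cast_smul_eq_nsmul (ZMod (p ^ n)), smul_eq_mul, ← Nat.cast_mul,
        ← pow_succ', Nat.sub_add_cancel hn, ZMod.natCast_self, ofAdd_zero]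
    · intro h
      have h' := congrArg Multiplicative.toAdd h
      rw [hz, toAdd_ofAdd, toAdd_one, ZMod.natCast_eq_zero_iff, Nat.pow_dvd_pow_iff_le_right
        hp.out.one_lt] at h'
      omega
  let f : Fin p × Fin p × Fin p → {x : V // x ^ p = 1} := fun t =>
    ⟨e.symm ((z ^ (t.1 : ℕ), z ^ (t.2.1 : ℕ)), h₀ ^ (t.2.2 : ℕ)), by
      rw [← map_pow, MulEquiv.map_eq_one_iff]
      have hzp : z ^ p = 1 := orderOf_dvd_iff_pow_eq_one.1 hzord.dvd
      have hhp : h₀ ^ p = 1 := by rw [← hh₀]; exact pow_orderOf_eq_one h₀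
      refine Prod.ext (Prod.ext ?_ ?_) ?_
      · show (z ^ (t.1 : ℕ)) ^ p = 1
        rw [← pow_mul, mul_comm, pow_mul, hzp, one_pow]
      · show (z ^ (t.2.1 : ℕ)) ^ p = 1
        rw [← pow_mul, mul_comm, pow_mul, hzp, one_pow]
      · show (h₀ ^ (t.2.2 : ℕ)) ^ p = 1
        rw [← pow_mul, mul_comm, pow_mul, hhp, one_pow]⟩
  have hf : Function.Injective f := by
    rintro ⟨a, b, c⟩ ⟨a', b', c'⟩ h
    have h' := e.symm.injective (congrArg Subtype.val h)
    simp only [Prod.ext_iff] at h'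
    have inj : ∀ {G : Type _} [Group G] (g : G), orderOf g = p → ∀ i j : Fin p,
        g ^ (i : ℕ) = g ^ (j : ℕ) → i = j := fun g hg i j hij =>
      Fin.ext (pow_injOn_Iio_orderOf (by rw [hg]; exact i.2) (by rw [hg]; exact j.2) hij)
    rw [inj z hzord a a' h'.1.1, inj z hzord b b' h'.1.2, inj h₀ hh₀ c c' h'.2]
  have := Nat.card_le_card_of_injective f hf
  rw [Nat.card_prod, Nat.card_prod, Nat.card_fin] at this
  have h2 := card_torsion_le (p := p) N
  nlinarith [hp.out.two_le, Nat.mul_le_mul hp.out.two_le (le_refl (p * p))]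

theorem isQuasiDihedral_of {k : ℕ} (hcard : Nat.card S = 2 ^ (k + 4)) {a b : S}
    (ha : orderOf a = 2 ^ (k + 3)) (hb : orderOf b = 2)
    (hba : b * a * b⁻¹ = a ^ (2 ^ (k + 2) - 1)) : Cfsg.IsQuasiDihedral S :=
  ⟨k + 3, by omega, hcard, a, b, ha, hb, hba⟩

/-- A metacyclic `p`-group which is not homocyclic of rank two and, for `p = 2`, not dihedral,
semidihedral or quaternion, has a characteristic series with cyclic steps. -/
theorem exists_charChain_metacyclic [Finite S] {p : ℕ} [hp : Fact p.Prime] (hS : IsPGroup p S)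
    (hm : Cfsg.IsMetacyclic S)
    (hh : ¬ ∃ n : ℕ, 0 < n ∧
      Nonempty (S ≃* Multiplicative (ZMod (p ^ n)) × Multiplicative (ZMod (p ^ n))))
    (h2 : p = 2 → ¬ ((∃ n : ℕ, 2 ≤ n ∧ Nonempty (S ≃* DihedralGroup n)) ∨
      Cfsg.IsQuasiDihedral S ∨ ∃ n : ℕ, 2 ≤ n ∧ Nonempty (S ≃* QuaternionGroup n))) :
    ∃ C : CyclicChain S, ∀ (a : MulAut S) (i : ℕ), ∀ y ∈ C.K i, a y ∈ C.K i := by
  refine exists_chain_of_reach ?_
  obtain ⟨N, hN, hNc, hQc⟩ := hm
  letI : CommGroup (S ⧸ N) := IsCyclic.commGroup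
  set D := commutator S with hD
  set q : S →* Abelianization S := Abelianization.of
  have hq : Function.Surjective q := QuotientGroup.mk'_surjective _
  have hqker : q.ker = D := QuotientGroup.ker_mk' _
  have hDN : D ≤ N := (Abelianization.commutator_subset_ker (QuotientGroup.mk' N)).trans
    (QuotientGroup.ker_mk' N).le
  have hDinv : ∀ (a : MulAut S), ∀ y ∈ D, a y ∈ D := fun a y hy =>
    (Subgroup.characteristic_iff_map_le.1 inferInstance a) ⟨y, hy, rfl⟩
  have hker : ∀ (a : MulAut S), ∀ y, q y = 1 → q (a y) = 1 := fun a y hy => by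
    rw [← MonoidHom.mem_ker, hqker] at hy ⊢
    exact hDinv a y hy
  haveI : Finite (Abelianization S) := Finite.of_surjective q hq
  have hVp : IsPGroup p (Abelianization S) := hS.of_surjective q hq
  set N' := N.map q
  haveI : IsCyclic N' := isCyclic_of_surjective (q.subgroupMap N) (q.subgroupMap_surjective N)
  haveI : IsCyclic (Abelianization S ⧸ N') :=
    isCyclic_of_surjective (QuotientGroup.map N N' q (fun x hx => ⟨x, hx, rfl⟩)) (by
      intro w
      obtain ⟨v, rfl⟩ := QuotientGroup.mk'_surjective N' w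
      obtain ⟨x, rfl⟩ := hq v
      exact ⟨x, rfl⟩)
  haveI : IsCyclic D := isCyclic_of_injective (Subgroup.inclusion hDN) (Subgroup.inclusion_injective hDN)
  -- the cyclic bottom step
  have hbot : CStep (⊥ : Subgroup S) D := by
    refine ⟨bot_le, fun a y hy => ?_, hDinv, ?_⟩
    · rw [Subgroup.mem_bot] at hy ⊢; rw [hy, map_one]
    · obtain ⟨g, hg⟩ := IsCyclic.exists_generator (α := D)
      refine ⟨g, g.2, fun y hy => ?_⟩
      obtain ⟨k, hk⟩ := Subgroup.mem_zpowers_iff.1 (hg ⟨y, hy⟩)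
      refine ⟨k, ?_⟩
      rw [Subgroup.mem_bot, inv_mul_eq_one]
      exact congrArg Subtype.val hk
  refine (Relation.ReflTransGen.single hbot).trans ?_
  rcases layers_or_homocyclic hVp N' with hlay | ⟨n, hn, ⟨e⟩⟩
  · have h := reach_comap hVp q hq hker ⊤ (fun _ _ _ => Subgroup.mem_top _)
      (hlay.of_equiv Subgroup.topEquiv.symm)
    rwa [hqker, Subgroup.comap_top] at h
  -- the abelianization is homocyclic
  have hcardV : Nat.card (Abelianization S) = p ^ n * p ^ n := by
    rw [Nat.card_congr e.toEquiv, Nat.card_prod, Nat.card_congr Multiplicative.toAdd, Nat.card_zmod]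
  by_cases hD1 : D = ⊥
  · exfalso
    have hqi : Function.Injective q := (MonoidHom.ker_eq_bot_iff _).1 (hqker.trans hD1)
    exact hh ⟨n, hn, ⟨(MulEquiv.ofBijective q ⟨hqi, hq⟩).trans e⟩⟩
  have hexpV : ∀ v : Abelianization S, v ^ p ^ n = 1 := fun v => by
    have hz : ∀ z : Multiplicative (ZMod (p ^ n)), z ^ p ^ n = 1 := fun z => by
      have hc : Nat.card (Multiplicative (ZMod (p ^ n))) = p ^ n := by
        rw [Nat.card_congr Multiplicative.toAdd, Nat.card_zmod]
      exact orderOf_dvd_iff_pow_eq_one.1 ((orderOf_dvd_natCard z).trans hc.dvd)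
    apply e.injective
    rw [map_pow, map_one]
    exact Prod.ext (hz _) (hz _)
  have hchoose : p ∣ (p ^ n).choose 2 := by
    by_cases h : p = 2 ∧ n = 1
    · exfalso
      obtain ⟨rfl, rfl⟩ := h
      obtain ⟨l, hl⟩ := IsPGroup.iff_card.1 hS
      have hidx : D.index = 4 := by
        rw [← hqker, Subgroup.index_ker, MonoidHom.range_eq_top.2 hq, Subgroup.card_top, hcardV]
        norm_num
      have hl3 : 3 ≤ l := by
        have h' := D.card_mul_index
        rw [hidx, hl] at h'
        have : 2 ≤ Nat.card D := (Subgroup.one_lt_card_iff_ne_bot D).2 hD1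
        by_contra hl3
        have : 2 ^ l ≤ 2 ^ 2 := Nat.pow_le_pow_right (by norm_num) (by omega)
        omega
      rcases TwoClass.classify hl3 hl hidx with ⟨k, hk⟩ | ⟨k, hc, a, b, ha, hb, hba⟩ | ⟨k, hk⟩
      · exact h2 rfl (Or.inl ⟨2 ^ (k + 2), Nat.le_self_pow (by omega) 2 |>.trans le_rfl, hk⟩)
      · exact h2 rfl (Or.inr (Or.inl (isQuasiDihedral_of hc ha hb hba)))
      · exact h2 rfl (Or.inr (Or.inr ⟨2 ^ (k + 1), Nat.le_self_pow (by omega) 2, hk⟩))
    · rw [Nat.choose_two_right]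
      rcases hp.out.eq_two_or_odd' with rfl | hodd
      · have hn2 : 2 ≤ n := by simp only [true_and] at h; omega
        obtain ⟨l, rfl⟩ := Nat.exists_eq_add_of_le' hn2
        rw [show 2 ^ (l + 2) * (2 ^ (l + 2) - 1) = 2 * (2 * (2 ^ l * (2 ^ (l + 2) - 1))) by ring,
          Nat.mul_div_cancel_left _ (by norm_num)]
        exact dvd_mul_right _ _
      · have he : 2 ∣ p ^ n - 1 := by
          obtain ⟨m, hm⟩ := hodd.pow (n := n)
          exact ⟨m, by omega⟩
        rw [Nat.mul_div_assoc _ he]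
        exact (dvd_pow_self p hn.ne').mul_right _
  obtain ⟨a, ha⟩ := IsCyclic.exists_generator (α := N)
  have haN : ∀ y ∈ N, ∃ k : ℤ, (a : S) ^ k = y := fun y hy =>
    (Subgroup.mem_zpowers_iff.1 (ha ⟨y, hy⟩)).imp fun k hk => congrArg Subtype.val hk
  obtain ⟨w, hw⟩ := IsCyclic.exists_generator (α := S ⧸ N)
  obtain ⟨b, rfl⟩ := QuotientGroup.mk'_surjective N w
  have hab : ∀ x : S, ∃ i j : ℤ, x = b ^ i * (a : S) ^ j := by
    intro x
    obtain ⟨i, hi⟩ := Subgroup.mem_zpowers_iff.1 (hw (x : S ⧸ N))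
    have hmem : (b ^ i)⁻¹ * x ∈ N := QuotientGroup.eq.1 (by rw [QuotientGroup.mk_zpow]; exact hi)
    obtain ⟨j, hj⟩ := haN _ hmem
    exact ⟨i, j, by rw [hj, mul_inv_cancel_left]⟩
  have hord : orderOf (q (a : S)) = p ^ n := by
    refine Nat.dvd_antisymm (orderOf_dvd_of_pow_eq_one (hexpV _)) ?_
    have hmul : Nat.card (Abelianization S) ≤ p ^ n * orderOf (q (a : S)) := by
      have hs : Function.Surjective
          fun t : Subgroup.zpowers (q b) × Subgroup.zpowers (q (a : S)) => (t.1 : Abelianization S) * t.2 := by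
        intro v
        obtain ⟨x, rfl⟩ := hq v
        obtain ⟨i, j, rfl⟩ := hab x
        exact ⟨(⟨_, i, rfl⟩, ⟨_, j, rfl⟩), by simp⟩
      refine (Nat.card_le_card_of_surjective _ hs).trans ?_
      rw [Nat.card_prod, Nat.card_zpowers, Nat.card_zpowers]
      exact Nat.mul_le_mul_right _ (Nat.le_of_dvd (pow_pos hp.out.pos n)
        (orderOf_dvd_of_pow_eq_one (hexpV _)))
    rw [hcardV] at hmul
    have hle : p ^ n ≤ orderOf (q (a : S)) := Nat.le_of_mul_le_mul_left hmul (pow_pos hp.out.pos n)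
    rw [le_antisymm hle (Nat.le_of_dvd (pow_pos hp.out.pos n) (orderOf_dvd_of_pow_eq_one (hexpV _)))]
  -- `D` is generated by `a ^ p ^ n`
  set d : S := (a : S) ^ p ^ n with hd
  have hdD : d ∈ D := by rw [← hqker, MonoidHom.mem_ker, map_pow, hexpV]
  have hDd : ∀ y ∈ D, ∃ k : ℤ, d ^ k = y := by
    intro y hy
    obtain ⟨j, rfl⟩ := haN y (hDN hy)
    rw [← hqker, MonoidHom.mem_ker, map_zpow, ← orderOf_dvd_iff_zpow_eq_one, hord] at hy
    obtain ⟨k, rfl⟩ := hy
    exact ⟨k, by rw [hd, zpow_mul, zpow_natCast]⟩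
  -- the `p`-th powers in `D`
  let Dp : Subgroup S := Subgroup.zpowers (d ^ p)
  have hDpD : Dp ≤ D := Subgroup.zpowers_le.2 (pow_mem hdD p)
  have hDpinv : ∀ (g : MulAut S), ∀ y ∈ Dp, g y ∈ Dp := by
    rintro g _ ⟨k, rfl⟩
    obtain ⟨r, hr⟩ := hDd _ (hDinv g d hdD)
    refine ⟨r * k, ?_⟩
    show (d ^ p) ^ (r * k) = g ((d ^ p) ^ k)
    rw [map_zpow, map_pow, ← hr, ← zpow_natCast (d ^ r), ← zpow_natCast d, ← zpow_mul, ← zpow_mul,
      ← zpow_mul]
    congr 1
    ring
  haveI : Dp.Normal := normal_of_invariant hDpinv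
  haveI : Finite (S ⧸ Dp) := inferInstance
  set r := QuotientGroup.mk' Dp
  have hd1 : d ∉ Dp := by
    intro hmem
    obtain ⟨k, hk⟩ := Subgroup.mem_zpowers_iff.1 hmem
    have h1 : d ^ ((p : ℤ) * k - 1) = 1 := by
      rw [zpow_sub_one, zpow_mul, zpow_natCast, hk, mul_inv_cancel]
    obtain ⟨l, hl⟩ := IsPGroup.iff_orderOf.1 hS d
    rw [← orderOf_dvd_iff_zpow_eq_one, hl] at h1
    rcases Nat.eq_zero_or_pos l with rfl | hlpos
    · apply hD1
      rw [pow_zero, orderOf_eq_one_iff] at hl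
      refine (Subgroup.eq_bot_iff_forall _).2 fun y hy => ?_
      obtain ⟨k, rfl⟩ := hDd y hy
      rw [hl, one_zpow]
    · have h3 : (p : ℤ) ∣ (p : ℤ) * k - 1 :=
        (show (p : ℤ) ∣ ((p ^ l : ℕ) : ℤ) from Int.natCast_dvd_natCast.2 (dvd_pow_self p hlpos.ne')).trans h1
      have h4 : (p : ℤ) ∣ 1 := by
        have := (dvd_mul_right (p : ℤ) k).sub h3
        simpa using this
      have h5 : p ∣ 1 := by exact_mod_cast h4
      exact hp.out.one_lt.ne' (Nat.dvd_one.1 h5)
  -- `D / Dp` is central of order `p`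
  have hrd : ∀ y ∈ D, r y ^ p = 1 := by
    intro y hy
    obtain ⟨k, rfl⟩ := hDd y hy
    rw [← map_pow, QuotientGroup.mk'_apply, QuotientGroup.eq_one_iff]
    exact ⟨k, by
      show (d ^ p) ^ k = (d ^ k) ^ p
      rw [← zpow_natCast d, ← zpow_natCast (d ^ k), ← zpow_mul, ← zpow_mul, mul_comm]⟩
  have hcent : ∀ y ∈ D, ∀ x : S, r y * r x = r x * r y := by
    have hord' : orderOf (r d) = p := orderOf_eq_prime (hrd d hdD) (fun h => hd1 ((QuotientGroup.eq_one_iff d).1 h))
    set E := Subgroup.zpowers (r d)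
    haveI hEn : E.Normal := by
      have : E = D.map r := by
        refine le_antisymm (Subgroup.zpowers_le.2 ⟨d, hdD, rfl⟩) ?_
        rintro _ ⟨y, hy, rfl⟩
        obtain ⟨k, rfl⟩ := hDd y hy
        exact ⟨k, (map_zpow r d k).symm⟩
      rw [this]
      exact Subgroup.Normal.map inferInstance r (QuotientGroup.mk'_surjective _)
    have hEc : E ≤ Subgroup.center (S ⧸ Dp) := by
      have hcard : Nat.card E = p := by rw [Nat.card_zpowers, hord']
      intro z hz
      rw [Subgroup.mem_center_iff]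
      intro w
      by_contra hne
      haveI := (hS.to_quotient Dp).isNilpotent
      have hne' : E ≠ ⊥ := fun h => by rw [h, Subgroup.card_bot] at hcard; exact hp.out.one_lt.ne hcard
      have hI := Cfsg.Agent.Lib.Nilp.inf_center_ne_bot_of_normal hne'
      have hle : E ≤ Subgroup.center (S ⧸ Dp) := by
        have hdvd := Subgroup.card_dvd_of_le (inf_le_left : E ⊓ Subgroup.center (S ⧸ Dp) ≤ E)
        rw [hcard, Nat.dvd_prime hp.out] at hdvd
        rcases hdvd with h | h
        · exact absurd (Subgroup.card_eq_one.1 h) hI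
        · exact (Subgroup.eq_of_le_of_card_ge inf_le_left (by rw [h, hcard])).ge.trans inf_le_right
      exact hne (Subgroup.mem_center_iff.1 (hle hz) w)
    intro y hy x
    obtain ⟨k, rfl⟩ := hDd y hy
    exact (Subgroup.mem_center_iff.1 (hEc ⟨k, (map_zpow r d k).symm⟩) (r x)).symm
  let φ : S →* S ⧸ Dp := MonoidHom.mk' (fun x => r x ^ p ^ n) fun x y => by
    have hc : y * x * (x * y)⁻¹ ∈ D := by
      rw [← hqker, MonoidHom.mem_ker, map_mul, map_inv, map_mul, map_mul, mul_comm (q x),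
        mul_inv_cancel]
    rw [map_mul, pow_of_central (c := r (y * x * (x * y)⁻¹)) (hcent _ hc x) (hcent _ hc y)
      (by rw [← map_mul, ← map_mul, ← map_mul, inv_mul_cancel_right]) (p ^ n)]
    obtain ⟨t, ht⟩ := hchoose
    rw [ht, pow_mul, hrd _ hc, one_pow, one_mul]
  have hφD : ∀ y ∈ D, φ y = 1 := fun y hy => by
    show r y ^ p ^ n = 1
    obtain ⟨l, rfl⟩ := Nat.exists_eq_add_of_le' hn
    rw [pow_succ', pow_mul, hrd y hy, one_pow]
  have hφa : φ a = r d := (map_pow r (a : S) (p ^ n)).symm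
  set M := φ.ker
  have hDM : D ≤ M := fun y hy => hφD y hy
  have hMinv : ∀ (g : MulAut S), ∀ y ∈ M, g y ∈ M := by
    intro g y hy
    have h1 : y ^ p ^ n ∈ Dp := by
      rw [← QuotientGroup.eq_one_iff, QuotientGroup.mk_pow]; exact hy
    show r (g y) ^ p ^ n = 1
    rw [← map_pow, ← map_pow, QuotientGroup.mk'_apply, QuotientGroup.eq_one_iff]
    exact hDpinv g _ h1
  have hφr : ∀ x, ∃ k : ℤ, φ x = r d ^ k := fun x => by
    have hm : x ^ p ^ n ∈ D := by rw [← hqker, MonoidHom.mem_ker, map_pow, hexpV]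
    obtain ⟨k, hk⟩ := hDd _ hm
    exact ⟨k, by show r x ^ p ^ n = _; rw [← map_pow, ← hk, map_zpow]⟩
  -- the top step
  have htop : CStep M ⊤ := by
    refine ⟨le_top, hMinv, fun _ _ _ => Subgroup.mem_top _, a, Subgroup.mem_top _, fun y _ => ?_⟩
    obtain ⟨k, hk⟩ := hφr y
    refine ⟨k, ?_⟩
    show φ _ = 1
    rw [map_mul, map_inv, map_zpow, hφa, hk, inv_mul_cancel]
  -- `M / D` is not homocyclic
  set U := M.map q
  have hUM : U.comap q = M := by
    rw [Subgroup.comap_map_eq, hqker, sup_eq_left.2 hDM]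
  have hUinv : ∀ (g : MulAut S), ∀ y, q y ∈ U → q (g y) ∈ U := fun g y hy =>
    ⟨g y, hMinv g y (hUM.le hy), rfl⟩
  have hcardU : Nat.card U * p = p ^ n * p ^ n := by
    have hindex : U.index = p := by
      rw [Subgroup.index_map_eq _ hq (hqker.le.trans hDM), Subgroup.index_ker]
      have hr : φ.range = Subgroup.zpowers (r d) := by
        refine le_antisymm ?_ (Subgroup.zpowers_le.2 ⟨a, hφa⟩)
        rintro _ ⟨x, rfl⟩
        obtain ⟨k, hk⟩ := hφr x
        exact ⟨k, hk.symm⟩
      rw [hr, Nat.card_zpowers]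
      exact orderOf_eq_prime (hrd d hdD) (fun h => hd1 ((QuotientGroup.eq_one_iff d).1 h))
    rw [← hcardV, ← U.card_mul_index, hindex]
  have hlayU : HasCyclicLayers p U := by
    set W := N'.subgroupOf U
    haveI : IsCyclic W := isCyclic_of_injective
      (MonoidHom.codRestrict (U.subtype.comp W.subtype) N' fun w => w.2)
      (fun x y h => Subtype.ext (Subtype.ext (congrArg Subtype.val h :)))
    haveI : IsCyclic (U ⧸ W) := isCyclic_of_injective
      (QuotientGroup.map W N' U.subtype (fun x hx => hx)) ((injective_iff_map_eq_one _).2 fun w hw => by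
        obtain ⟨u, rfl⟩ := QuotientGroup.mk'_surjective W w
        have hu : ((u : Abelianization S) : Abelianization S ⧸ N') = 1 := hw
        exact (QuotientGroup.eq_one_iff u).2 ((QuotientGroup.eq_one_iff (u : Abelianization S)).1 hu))
    refine (layers_or_homocyclic (hVp.to_subgroup U) W).resolve_right ?_
    rintro ⟨m, -, ⟨e'⟩⟩
    rw [Nat.card_congr e'.toEquiv, Nat.card_prod, Nat.card_congr Multiplicative.toAdd, Nat.card_zmod,
      ← pow_add, ← pow_succ, ← pow_add] at hcardU
    have := Nat.pow_right_injective hp.out.two_le hcardU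
    omega
  have hmid := reach_comap hVp q hq hker U hUinv hlayU
  rw [hqker, hUM] at hmid
  exact hmid.tail htop

end Cfsg.Agent.Lib.Fusion87.Metacyclic
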