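import Cfsg.Agent.Lib.Fusion.ModelUnique
import Cfsg.Agent.Lib.Fusion.ModelSystems
import Cfsg.Agent.Lib.ConjFunctor.Engine
import Cfsg.Agent.Lib.PSolvable.HallHigman
import Cfsg.Agent.Lib.PSolvable.PSolv

/-!
Systems realized modulo a normal `p'`-subgroup, and the automorphisms induced on the core of a
constrained system by a model.
-/

set_option autoImplicit false

namespace Cfsg.Agent.Lib.Fusion87

open Cfsg Cfsg.FusionSystem Cfsg.Agent.Lib.Fusion

variable {Ω : Type*} [Group Ω] {S : Subgroup Ω} {F : FusionSystem S} {p : ℕ}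
  {G : Type*} [Group G] {ι : S →* G}

/-- A quotient by a normal `p'`-subgroup realizes the same system. -/
theorem isRealizedBy_quotient [Finite G] [Fact p.Prime] (h : F.IsRealizedBy ι)
    (T : Sylow p G) (hT : (T : Subgroup G) = ι.range) (N : Subgroup G) [N.Normal]
    (hN : (Nat.card N).Coprime p) :
    F.IsRealizedBy ((QuotientGroup.mk' N).comp ι) ∧
      ∃ T' : Sylow p (G ⧸ N), (T' : Subgroup (G ⧸ N)) = ((QuotientGroup.mk' N).comp ι).range := by
  have hTN : (T : Subgroup G) ⊓ N = ⊥ := PSolvable.inf_eq_bot_of_isPGroup_of_coprime T.2 hN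
  have hinj : ∀ s t : S, (ι s)⁻¹ * ι t ∈ N → s = t := fun s t hst => h.1 <| inv_mul_eq_one.1 <|
    Subgroup.mem_bot.1 (hTN.le ⟨hT.ge ⟨s⁻¹ * t, by rw [map_mul, map_inv]⟩, hst⟩)
  refine ⟨⟨fun s t hst => hinj s t (QuotientGroup.eq.1 hst), fun P hP φ hφ => ?_⟩,
    T.mapSurjective (QuotientGroup.mk'_surjective N), ?_⟩
  · constructor
    · intro hφF
      obtain ⟨g, hg⟩ := (h.2 P hP φ hφ).1 hφF
      exact ⟨QuotientGroup.mk' N g, fun x => by
        simp only [MonoidHom.comp_apply, hg x, map_mul, map_inv]⟩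
    · rintro ⟨gq, hgq⟩
      obtain ⟨g, rfl⟩ := QuotientGroup.mk'_surjective N gq
      let f₂ : P →* G := ι.comp (φ.codRestrict S hφ)
      let f₁ : P →* G := (MulAut.conj g).toMonoidHom.comp (ι.comp (Subgroup.inclusion hP))
      have hcong : ∀ x : P, (f₂ x)⁻¹ * f₁ x ∈ N := fun x => QuotientGroup.eq.1 <| by
        have := hgq x
        simp only [MonoidHom.comp_apply, QuotientGroup.mk'_apply, ← QuotientGroup.mk_mul,
          ← QuotientGroup.mk_inv] at this
        exact this
      have hSp : IsPGroup p S := T.2.of_injective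
        (ι.codRestrict (T : Subgroup G) fun s => hT.ge ⟨s, rfl⟩)
        (fun a b hab => h.1 (congrArg Subtype.val hab))
      have hp : ∀ f : P →* G, IsPGroup p f.range := fun f =>
        (hSp.to_le hP).of_surjective f.rangeRestrict f.rangeRestrict_surjective
      have hsub₁ : f₁.range ≤ f₂.range ⊔ N := by
        rintro _ ⟨x, rfl⟩
        have := Subgroup.mul_mem_sup (show f₂ x ∈ f₂.range from ⟨x, rfl⟩) (hcong x)
        rwa [mul_inv_cancel_left] at this
      have hsub₂ : f₂.range ⊔ N ≤ f₁.range ⊔ N := by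
        refine sup_le ?_ le_sup_right
        rintro _ ⟨x, rfl⟩
        have := Subgroup.mul_mem_sup (show f₁ x ∈ f₁.range from ⟨x, rfl⟩) (N.inv_mem (hcong x))
        rwa [mul_inv_rev, inv_inv, mul_inv_cancel_left] at this
      have hidx : ∀ f : P →* G, ¬ p ∣ f.range.relIndex (f.range ⊔ N) := fun f hd => by
        have hd' : f.range.relIndex (f.range ⊔ N) ∣ Nat.card N := by
          have e1 := PSolvable.card_mul_relIndex (le_sup_left : f.range ≤ f.range ⊔ N)
          have e2 := PSolvable.card_mul_relIndex (le_sup_right : N ≤ f.range ⊔ N)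
          rw [Subgroup.relIndex_sup_right, ← e1] at e2
          obtain ⟨k, hk⟩ := Subgroup.relIndex_dvd_card N f.range
          rw [hk] at e2
          have hne : N.relIndex f.range ≠ 0 := fun h0 => by
            rw [h0, zero_mul] at hk; exact Nat.card_pos.ne' hk
          refine ⟨k, mul_left_cancel₀ hne ?_⟩
          rw [mul_comm (N.relIndex _) (Nat.card N), e2]
          ring
        exact (Fact.out : p.Prime).coprime_iff_not_dvd.1 hN.symm (hd.trans hd')
      have heq : f₁.range ⊔ N = f₂.range ⊔ N :=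
        le_antisymm (sup_le hsub₁ le_sup_right) hsub₂
      obtain ⟨a, ha, hle⟩ := ConjFunctor.exists_conj_le (H := f₂.range ⊔ N) (P := f₁.range)
        (Q := f₂.range) hsub₁ (hp f₁) le_sup_left (hp f₂) (hidx f₂)
      obtain ⟨u, hu, n, hn, rfl⟩ := Subgroup.mem_sup_of_normal_right.1 ha
      refine (h.2 P hP φ hφ).2 ⟨n * g, fun x => ?_⟩
      have h1 : u * n * f₁ x * (u * n)⁻¹ ∈ f₂.range := hle ⟨f₁ x, ⟨x, rfl⟩, rfl⟩
      have h2 : n * f₁ x * n⁻¹ ∈ f₂.range := by
        have := Subgroup.mul_mem _ (Subgroup.mul_mem _ (Subgroup.inv_mem _ hu) h1) hu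
        simpa [mul_assoc] using this
      obtain ⟨y, hy⟩ := h2
      have h3 : (f₂ x)⁻¹ * f₂ y ∈ N := by
        rw [hy, ← QuotientGroup.eq]
        have hn1 : (QuotientGroup.mk' N) n = 1 := (QuotientGroup.eq_one_iff n).2 hn
        have hc : (QuotientGroup.mk' N) (f₂ x) = (QuotientGroup.mk' N) (f₁ x) :=
          QuotientGroup.eq.2 (hcong x)
        show (QuotientGroup.mk' N) (f₂ x) = (QuotientGroup.mk' N) (n * f₁ x * n⁻¹)
        rw [map_mul, map_mul, map_inv, hn1, hc]
        group
      have h4 : f₂ x = f₂ y := congrArg ι (hinj _ _ h3)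
      show f₂ x = n * g * ι ⟨x, hP x.2⟩ * (n * g)⁻¹
      rw [h4, hy, show f₁ x = g * ι ⟨x, hP x.2⟩ * g⁻¹ from rfl]
      group
  · rw [Sylow.coe_mapSurjective, hT, MonoidHom.range_comp]

theorem core_eq_modelCore [Fact p.Prime] (hM : F.IsModel p G ι) : F.core = modelCore p ι :=
  le_antisymm (sSup_le fun _ hQ => le_modelCore_of_isNormal hM hQ) (le_sSup (isNormal_modelCore hM))

/-- A model maps onto the automorphisms of the core, with kernel inside `O_p`. -/
theorem exists_hom_autGroup_core [Fact p.Prime] (hM : F.IsModel p G ι) :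
    ∃ ρ : G →* F.autGroup F.core, Function.Surjective ρ ∧ ρ.ker ≤ pCore p G := by
  rw [core_eq_modelCore hM]
  have hR := (isNormal_modelCore hM)
  obtain ⟨hfin, h, hT, hC⟩ := hM
  have : (pCore p G).Normal := pCore_normal _ _
  set R := modelCore p ι
  have hRS : R ≤ S := hR.1
  let f : R →* pCore p G := (ι.comp (Subgroup.inclusion hRS)).codRestrict _
    fun x => (mem_modelCore (ι := ι) (hRS x.2)).1 x.2
  have hf : Function.Bijective f := by
    refine ⟨fun a b hab => Subgroup.inclusion_injective hRS (h.1 (congrArg Subtype.val hab)),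
      fun y => ?_⟩
    obtain ⟨s, hs⟩ := pCore_le_range hT y.2
    exact ⟨⟨s, (mem_modelCore s.2).2 (hs ▸ y.2)⟩, Subtype.ext hs⟩
  let e : R ≃* pCore p G := MulEquiv.ofBijective f hf
  let ρ : G →* MulAut R := (MulAut.congr e.symm).toMonoidHom.comp MulAut.conjNormal
  have hval : ∀ (g : G) (x : R), ι ⟨ρ g x, hRS (ρ g x).2⟩ = g * ι ⟨x, hRS x.2⟩ * g⁻¹ := by
    intro g x
    have h1 : e (ρ g x) = MulAut.conjNormal g (e x) := e.apply_symm_apply _
    exact (congrArg Subtype.val h1).trans (MulAut.conjNormal_apply g (e x))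
  have hmem : ∀ g, ρ g ∈ F.autGroup R := fun g => (mem_autGroup hRS).2
    ((h.2 R hRS _ fun x => hRS (ρ g x).2).2 ⟨g, hval g⟩)
  refine ⟨ρ.codRestrict _ hmem, fun α => ?_, ?_⟩
  · obtain ⟨g, hg⟩ := exists_conj_of_hom h (autGroup_hom_mem hRS α.2)
    refine ⟨g, Subtype.ext (MulEquiv.ext fun x => Subtype.ext ?_)⟩
    show ((ρ g x : R) : Ω) = autHom (α : MulAut R) x
    have h5 := congrArg Subtype.val (h.1 ((hval g x).trans (hg x).symm))
    exact h5
  · intro g hg
    refine hC fun y hy => ?_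
    obtain ⟨x, hx⟩ := hf.2 ⟨y, hy⟩
    have h1 : ρ g = 1 := congrArg Subtype.val hg
    have h2 := hval g x
    simp only [h1, MulAut.one_apply] at h2
    have h3 : ι ⟨x, hRS x.2⟩ = y := congrArg Subtype.val hx
    rw [h3] at h2
    calc y * g = g * y * g⁻¹ * g := by rw [← h2]
      _ = g * y := by group

end Cfsg.Agent.Lib.Fusion87
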