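/-
Every fusion system is realized inside a finite group (Park).
-/
import Cfsg.Agent.Lib.Fusion.Park

set_option autoImplicit false

namespace Cfsg.Agent.Lib.Fusion87

open Cfsg Cfsg.FusionSystem Cfsg.Agent.Lib.Fusion
open Cfsg.Agent.Lib.Fusion.Marks

universe u

variable {Ω : Type u} [Group Ω] {S : Subgroup Ω} {F : FusionSystem S}

/-- Marks are unchanged by transporting the left coordinate along a map of the system. -/
theorem mark_eq_left_map_of_stable {X : Type u} [MulAction (↥S × ↥S) X] (hX : ∀ x : X, IsTwistedIn F (MulAction.stabilizer (↥S × ↥S) x))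
    (hst : ∀ P : Subgroup Ω, StableAt F X P)
    {R : Subgroup Ω} {ψ : R →* Ω} (hψ : ψ ∈ F.Hom R) {E E' : Subgroup (↥S × ↥S)}
    (hER : ∀ z ∈ E, (z.1 : Ω) ∈ R)
    (hEE' : ∀ z : ↥S × ↥S, z ∈ E' ↔ ∃ w ∈ E, ∃ h : (w.1 : Ω) ∈ R,
      ψ ⟨w.1, h⟩ = (z.1 : Ω) ∧ w.2 = z.2) :
    mark X E = mark X E' := by
  by_cases hE : IsTwistedIn F E
  · obtain ⟨P, χ, hχ, rfl⟩ := hE
    obtain ⟨χ', hχ', rfl⟩ := map_tdiag_left hψ hχ rfl hER hEE'
    exact hst P χ hχ χ' hχ'
  · rw [mark_eq_zero_of_not_twisted hX hE, mark_eq_zero_of_not_twisted hX]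
    rintro ⟨P, χ', hχ', hE'e⟩
    obtain ⟨η, hη, -, hη1, hη2⟩ := exists_inverse hψ rfl
    apply hE
    obtain ⟨χ, hχ, hχe⟩ := map_tdiag_left (E := E') (E' := E) hη hχ' hE'e
      (fun z hz => by
        obtain ⟨w, -, h, e, -⟩ := (hEE' z).mp hz
        exact ⟨⟨w.1, h⟩, e⟩)
      (fun z => by
        constructor
        · intro hz
          exact ⟨(⟨ψ ⟨z.1, hER z hz⟩, val_mem hψ _⟩, z.2),
            (hEE' _).mpr ⟨z, hz, hER z hz, rfl, rfl⟩, ⟨_, rfl⟩, hη1 _ _, rfl⟩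
        · rintro ⟨w, hw, h, e, e2⟩
          obtain ⟨v, hv, hvR, ev, ev2⟩ := (hEE' w).mp hw
          have : z = v := by
            refine Prod.ext (Subtype.ext ?_) (by rw [← e2, ev2])
            rw [← e]
            have := hη1 ⟨v.1, hvR⟩ ⟨_, rfl⟩
            rw [← this]
            congr 1
            exact Subtype.ext ev.symm
          exact this ▸ hv)
    exact ⟨P, χ, hχ, hχe⟩

variable {X : Type u} [MulAction (↥S × ↥S) X]

/-- Every map of the system is a conjugation in the biset group. -/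
theorem exists_conj_of_stable [Finite S] [Finite X]
    (hX : ∀ x : X, IsTwistedIn F (MulAction.stabilizer (↥S × ↥S) x))
    (hst : ∀ P : Subgroup Ω, StableAt F X P)
    {P : Subgroup Ω} {φ : P →* Ω} (hφ : φ ∈ F.Hom P) :
    ∃ g : bisetGroup S X, ∀ (u : P) (hu : (u : Ω) ∈ S) (hv : φ u ∈ S),
      bisetEmbed S X ⟨φ u, hv⟩ = g * bisetEmbed S X ⟨u, hu⟩ * g⁻¹ := by
  have hP := src_le hφ
  have : Finite P := finite_of_le hP
  let f₁ : ↥P × ↥S →* ↥S × ↥S := (Subgroup.inclusion hP).prodMap (MonoidHom.id _)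
  let f₂ : ↥P × ↥S →* ↥S × ↥S := (φ.codRestrict S (val_mem hφ)).prodMap (MonoidHom.id _)
  have hmark : ∀ E : Subgroup (↥P × ↥S),
      @mark (↥P × ↥S) _ X (MulAction.compHom X f₁) E =
        @mark (↥P × ↥S) _ X (MulAction.compHom X f₂) E := by
    intro E
    have e1 : @mark (↥P × ↥S) _ X (MulAction.compHom X f₁) E = mark X (E.map f₁) := by
      refine Nat.card_congr (Equiv.subtypeEquivRight fun x => ?_)
      exact ⟨fun h z ⟨w, hw, e⟩ => e ▸ h w hw, fun h w hw => h _ ⟨w, hw, rfl⟩⟩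
    have e2 : @mark (↥P × ↥S) _ X (MulAction.compHom X f₂) E = mark X (E.map f₂) := by
      refine Nat.card_congr (Equiv.subtypeEquivRight fun x => ?_)
      exact ⟨fun h z ⟨w, hw, e⟩ => e ▸ h w hw, fun h w hw => h _ ⟨w, hw, rfl⟩⟩
    rw [e1, e2]
    refine mark_eq_left_map_of_stable hX hst hφ ?_ ?_
    · rintro _ ⟨w, -, rfl⟩
      exact w.1.2
    · intro z
      constructor
      · rintro ⟨w, hw, rfl⟩
        exact ⟨f₁ w, ⟨w, hw, rfl⟩, w.1.2, rfl, rfl⟩
      · rintro ⟨_, ⟨w, hw, rfl⟩, h, e, e2⟩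
        exact ⟨w, hw, Prod.ext (Subtype.ext e) e2⟩
  obtain ⟨e, he⟩ := @exists_equiv_of_mark_eq (↥P × ↥S) _ _ X X (MulAction.compHom X f₁)
    (MulAction.compHom X f₂) _ _ hmark
  have he' : ∀ (u : P) (b : ↥S) (x : X),
      e (((⟨u, hP u.2⟩ : ↥S), b) • x) = ((⟨φ u, val_mem hφ u⟩ : ↥S), b) • e x :=
    fun u b x => he (u, b) x
  refine ⟨⟨e, mem_bisetGroup.mpr fun b x => ?_⟩, fun u hu hv => ?_⟩
  · have h := he' 1 b x
    have h1 : (⟨φ 1, val_mem hφ 1⟩ : ↥S) = 1 := Subtype.ext (map_one φ)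
    rw [h1] at h
    exact h
  · rw [eq_mul_inv_iff_mul_eq]
    apply Subtype.ext
    refine Equiv.ext fun x => ?_
    exact (he' u 1 x).symm

/-- Disjoint copies multiply the marks. -/
theorem mark_copies {G : Type u} [Group G] (X : Type u) [MulAction G X] (k : ℕ) (H : Subgroup G) :
    mark (Σ _ : Fin k, X) H = k * mark X H := by
  have h : mark (Σ _ : Fin k, X) H = Nat.card (Fin k × fixedSet X H) := by
    refine Nat.card_congr
      { toFun := fun x => (x.1.1, ⟨x.1.2, ?_⟩)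
        invFun := fun x => ⟨⟨x.1, x.2.1⟩, ?_⟩
        left_inv := fun x => rfl
        right_inv := fun x => rfl }
    · have h := x.2
      simp only [mem_fixedSet, Sigma.ext_iff, heq_eq_eq] at h ⊢
      exact fun g hg => (h g hg).2
    · have h := x.2.2
      simp only [mem_fixedSet, Sigma.ext_iff, heq_eq_eq] at h ⊢
      exact fun g hg => ⟨rfl, h g hg⟩
  rw [h, Nat.card_prod, Nat.card_fin]
  rfl

variable (F) in
/-- A twisted biset with stable marks, down to sources of order above `|S| - j`, and non-empty marks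
at the diagonal. -/
theorem exists_stable_biset [Finite S] (j : ℕ) :
    ∃ (X : Type u) (_ : MulAction (↥S × ↥S) X) (_ : Finite X),
      (∀ x : X, IsTwistedIn F (MulAction.stabilizer (↥S × ↥S) x)) ∧
      (∀ P : Subgroup Ω, Nat.card ↥S < Nat.card P + j → StableAt F X P) ∧
      (0 < j → 0 < mark X (tdiag S S S.subtype)) := by
  induction j with
  | zero =>
    let _ : MulAction (↥S × ↥S) PEmpty.{u + 1} :=
      { smul := fun _ x => x
        one_smul := fun _ => rfl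
        mul_smul := fun _ _ _ => rfl }
    refine ⟨PEmpty.{u + 1}, inferInstance, inferInstance, fun x => x.elim, fun P hP φ hφ => ?_,
      fun h => absurd h (lt_irrefl 0)⟩
    have := Subgroup.card_le_of_le (src_le hφ)
    omega
  | succ j ih =>
    obtain ⟨X, _, _, hX, hst, hpos⟩ := ih
    set c := Nat.card ↥S - j with hc
    set k := Nat.card (↥S × ↥S) with hk
    have hk0 : 0 < k := Nat.card_pos
    set C : Set (Subgroup (↥S × ↥S)) := {D | IsTwistedIn F D ∧ Nat.card D = c}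
    have hM : ∀ D ∈ C, mark (Σ _ : Fin k, X) D ≤ k * (Nat.card X + 1) ∧
        mark ((↥S × ↥S) ⧸ D) D ∣ k * (Nat.card X + 1) - mark (Σ _ : Fin k, X) D := by
      intro D _
      rw [mark_copies]
      have hle : mark X D ≤ Nat.card X + 1 := (Finite.card_subtype_le _).trans (Nat.le_succ _)
      refine ⟨Nat.mul_le_mul_left k hle, ?_⟩
      rw [← Nat.mul_sub]
      refine Dvd.dvd.mul_right ((Dvd.intro _ (mark_quotient_self D)).trans ?_) _
      exact Subgroup.card_subgroup_dvd_card _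
    obtain ⟨Y, i1, i2, hsY, hmY, hoY⟩ := repair C c (k * (Nat.card X + 1)) (fun D hD => hD.2)
      (fun D hD g => ⟨isTwistedIn_conj hD.1 g,
        (Subgroup.card_map_of_injective (MulEquiv.injective _)).trans hD.2⟩) (Σ _ : Fin k, X) hM
    refine ⟨Y, i1, i2, fun y => ?_, fun P hP φ hφ ψ hψ => ?_, fun _ => ?_⟩
    · rcases hsY y with ⟨⟨i, x⟩, hx⟩ | h
      · rw [hx, show MulAction.stabilizer (↥S × ↥S) (⟨i, x⟩ : Σ _ : Fin k, X) =
          MulAction.stabilizer (↥S × ↥S) x from Subgroup.ext fun g => by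
            simp [MulAction.mem_stabilizer_iff]]
        exact hX x
      · exact h.1
    · have hle := Subgroup.card_le_of_le (src_le hφ)
      by_cases hcP : Nat.card P = c
      · rw [hmY _ ⟨isTwistedIn_tdiag hφ, (card_tdiag hφ).trans hcP⟩,
          hmY _ ⟨isTwistedIn_tdiag hψ, (card_tdiag hψ).trans hcP⟩]
      · rw [hoY _ (by rw [card_tdiag hφ]; omega) fun h => hcP ((card_tdiag hφ).symm.trans h.2),
          hoY _ (by rw [card_tdiag hψ]; omega) fun h => hcP ((card_tdiag hψ).symm.trans h.2),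
          mark_copies, mark_copies, hst P (by omega) φ hφ ψ hψ]
    · have hid : S.subtype ∈ F.Hom S := Cfsg.Agent.Lib.Fusion.subtype_mem le_rfl
      by_cases hcS : Nat.card ↥S = c
      · rw [hmY _ ⟨isTwistedIn_tdiag hid, (card_tdiag hid).trans hcS⟩]
        exact Nat.mul_pos hk0 (Nat.succ_pos _)
      · rw [hoY _ (by rw [card_tdiag hid]; omega) fun h => hcS ((card_tdiag hid).symm.trans h.2),
          mark_copies]
        exact Nat.mul_pos hk0 (hpos (by omega))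

/-- Park: every fusion system is realized inside a finite group. -/
theorem exists_realizing_group [Finite S] (F : FusionSystem S) :
    ∃ (G : Type u) (_ : Group G) (_ : Finite G) (ι : ↥S →* G), F.IsRealizedBy ι := by
  obtain ⟨X, _, _, hX, hst', hpos⟩ := exists_stable_biset F (Nat.card ↥S + 1)
  have hst : ∀ P : Subgroup Ω, StableAt F X P := fun P φ hφ => by
    haveI : Finite P := finite_of_le (src_le hφ)
    have : 0 < Nat.card P := Nat.card_pos
    exact hst' P (by omega) φ hφ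
  obtain ⟨⟨x₀, hx₀⟩⟩ := (Nat.card_pos_iff.1 (hpos (Nat.succ_pos _))).1
  obtain ⟨Q, χ, hχ, hstab⟩ := hX x₀
  have hle : tdiag S S S.subtype ≤ tdiag S Q χ := hstab ▸ mem_fixedSet_iff_le.1 hx₀
  obtain ⟨hSQ, hχid⟩ := (tdiag_le_iff (Cfsg.Agent.Lib.Fusion.subtype_mem (F := F) le_rfl)).1 hle
  have hfix : ∀ u : ↥S, ((u, u) : ↥S × ↥S) • x₀ = x₀ := fun u => by
    refine MulAction.mem_stabilizer_iff.1 ?_
    rw [hstab]
    exact ⟨hSQ u.2, hχid u⟩
  have hleft : ∀ u : ↥S, ((u, (1 : ↥S)) : ↥S × ↥S) • x₀ = ((1 : ↥S), u⁻¹) • x₀ := fun u => by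
    conv_lhs => rw [← hfix u⁻¹]
    rw [← mul_smul]
    simp
  refine ⟨bisetGroup S X, inferInstance, inferInstance, bisetEmbed S X, ?_, fun P hP φ hφ =>
    ⟨fun h => ?_, ?_⟩⟩
  · rw [injective_iff_map_eq_one]
    intro a ha
    have h1 : ((a, (1 : ↥S)) : ↥S × ↥S) • x₀ = x₀ := by rw [← bisetEmbed_apply, ha]; rfl
    have h2 : ((a, (1 : ↥S)) : ↥S × ↥S) ∈ tdiag S Q χ := hstab ▸ h1
    obtain ⟨hb, he⟩ := h2
    exact Subtype.ext (he.symm.trans (map_one χ))
  · obtain ⟨g, hg⟩ := exists_conj_of_stable hX hst h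
    exact ⟨g, fun x => hg x (hP x.2) (hφ x)⟩
  rintro ⟨g, hg⟩
  set y := (g : Equiv.Perm X) x₀ with hy
  obtain ⟨R, ψ, hψ, hstaby⟩ := hX y
  have key : ∀ x : P, ((⟨φ x, hφ x⟩, ⟨x, hP x.2⟩) : ↥S × ↥S) ∈ tdiag S R ψ := by
    intro x
    rw [← hstaby, MulAction.mem_stabilizer_iff]
    have h1 := congrArg (fun e : bisetGroup S X => (e : Equiv.Perm X) y) (hg x)
    have h2 : ((⟨φ x, hφ x⟩, (1 : ↥S)) : ↥S × ↥S) • y = ((1 : ↥S), (⟨x, hP x.2⟩ : ↥S)⁻¹) • y := by
      refine h1.trans ?_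
      show (g : Equiv.Perm X) ((bisetEmbed S X ⟨x, hP x.2⟩ : Equiv.Perm X)
        ((g : Equiv.Perm X)⁻¹ y)) = _
      rw [hy, show (g : Equiv.Perm X)⁻¹ ((g : Equiv.Perm X) x₀) = x₀ from
        (g : Equiv.Perm X).symm_apply_apply x₀, bisetEmbed_apply, hleft, bisetGroup_apply]
    rw [show ((⟨φ x, hφ x⟩, ⟨x, hP x.2⟩) : ↥S × ↥S) =
      ((1 : ↥S), (⟨x, hP x.2⟩ : ↥S)) * (⟨φ x, hφ x⟩, 1) by simp, mul_smul, h2, ← mul_smul,
      Prod.mk_mul_mk, one_mul, mul_inv_cancel, Prod.mk_one_one, one_smul]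
  exact mem_of_restrict hψ (fun x hx => (key ⟨x, hx⟩).1) fun x => (key x).2.symm

end Cfsg.Agent.Lib.Fusion87
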