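import Cfsg.Agent.Lib.Fusion87.Stabilizer
import Cfsg.Agent.Lib.Fusion87.Normal

/-!
Groups of class two whose elements of order `p` are central and whose commutators have order
dividing `p` are resistant.
-/

set_option autoImplicit false
set_option linter.style.haveILetI false

namespace Cfsg.Agent.Lib.Fusion87

open Cfsg Cfsg.FusionSystem Cfsg.Agent.Lib.Fusion
open scoped commutatorElement

variable {Ω : Type*} [Group Ω] {S : Subgroup Ω} {F : FusionSystem S} {p : ℕ}

/-- A group of class two with central elements of order `p` is resistant. -/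
theorem isNormal_of_class_two [Fact p.Prime] [Finite S] (hS : IsPGroup p S) (hF : F.IsSaturated p)
    (h1 : ∀ x ∈ S, x ^ p = 1 → ∀ y ∈ S, x * y = y * x)
    (h2 : ∀ x ∈ S, ∀ y ∈ S, ⁅x, y⁆ ^ p = 1) : F.IsNormal S := by
  have hsc : F.StronglyClosed S :=
    ⟨le_rfl, fun R _ φ hφ x => val_mem hφ x⟩
  refine isNormal_of_le_centric_radical hS hF hsc fun R hR hc hr => ?_
  have hcen : ∀ x : R, x ^ p = 1 → ∀ y : R, x * y = y * x := fun x hx y =>
    Subtype.ext (h1 x (hc.1 x.2) (by rw [← Subgroup.coe_pow, hx]; rfl) y (hc.1 y.2))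
  let K : Subgroup (F.autGroup R) :=
    { carrier := {a | (∀ x : R, x ^ p = 1 → (a : MulAut R) x = x) ∧
        ∀ x : R, (x⁻¹ * (a : MulAut R) x) ^ p = 1}
      one_mem' := ⟨fun x _ => rfl, fun x => by simp⟩
      mul_mem' := fun {a b} ha hb => ⟨fun x hx => by
          show (a : MulAut R) ((b : MulAut R) x) = x
          rw [hb.1 x hx, ha.1 x hx], fun x => by
          show (x⁻¹ * (a : MulAut R) ((b : MulAut R) x)) ^ p = 1
          have e : (b : MulAut R) x = x * (x⁻¹ * (b : MulAut R) x) := by group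
          rw [e, map_mul, ha.1 _ (hb.2 x), ← mul_assoc,
            (show Commute (x⁻¹ * (a : MulAut R) x) (x⁻¹ * (b : MulAut R) x) from
              hcen _ (ha.2 x) _).mul_pow, ha.2 x, hb.2 x, one_mul]⟩
      inv_mem' := fun {a} ha => ⟨fun x hx => by
          show (a : MulAut R)⁻¹ x = x
          conv_lhs => rw [← ha.1 x hx]
          exact (a : MulAut R).symm_apply_apply x, fun x => by
          show (x⁻¹ * (a : MulAut R)⁻¹ x) ^ p = 1
          have h := ha.2 ((a : MulAut R)⁻¹ x)
          rw [← MulAut.mul_apply, mul_inv_cancel, MulAut.one_apply] at h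
          rw [show x⁻¹ * (a : MulAut R)⁻¹ x = (((a : MulAut R)⁻¹ x)⁻¹ * x)⁻¹ by group, inv_pow, h,
            inv_one]⟩ }
  haveI : K.Normal := ⟨fun a ha b => ⟨fun x hx => by
      show (b : MulAut R) ((a : MulAut R) ((b : MulAut R)⁻¹ x)) = x
      rw [ha.1 _ (by rw [← map_pow, hx, map_one]), ← MulAut.mul_apply, mul_inv_cancel,
        MulAut.one_apply], fun x => by
      show (x⁻¹ * (b : MulAut R) ((a : MulAut R) ((b : MulAut R)⁻¹ x))) ^ p = 1
      have h := congrArg (b : MulAut R) (ha.2 ((b : MulAut R)⁻¹ x))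
      rw [map_pow, map_one, map_mul, map_inv] at h
      have hbb : (b : MulAut R) ((b : MulAut R)⁻¹ x) = x := (b : MulAut R).apply_symm_apply x
      rw [hbb] at h
      exact h⟩⟩
  have hK : IsPGroup p K := by
    haveI := finite_mulAut (S := S) hc.1
    refine isPGroup_of_coprime_trivial fun a ha => ?_
    have ha' : (orderOf ((a : F.autGroup R) : MulAut R)).Coprime p := by
      rwa [Subgroup.orderOf_coe, Subgroup.orderOf_coe]
    exact Subtype.ext (Subtype.ext (MulEquiv.ext fun x =>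
      fix_of_step _ ha' x (a.2.1 _ (a.2.2 x)) ⟨1, by rw [pow_one]; exact a.2.2 x⟩))
  refine le_of_normalizerIn_le hS hc.1 le_rfl Subgroup.le_normalizer fun g hgS hgN =>
    mem_of_radical hc hr K hK hgS hgN fun a ha => ⟨fun x hx => ?_, fun x => ?_⟩
  · rw [ha]
    refine Subtype.ext ?_
    show g * (x : Ω) * g⁻¹ = x
    rw [← h1 x (hc.1 x.2) (by rw [← Subgroup.coe_pow, hx]; rfl) g hgS, mul_inv_cancel_right]
  · rw [ha]
    refine Subtype.ext ?_
    show ((x : Ω)⁻¹ * (g * (x : Ω) * g⁻¹)) ^ p = 1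
    rw [show (x : Ω)⁻¹ * (g * (x : Ω) * g⁻¹) = ⁅(x : Ω)⁻¹, g⁆ by
      rw [commutatorElement_def]; group]
    exact h2 _ (S.inv_mem (hc.1 x.2)) g hgS

end Cfsg.Agent.Lib.Fusion87
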