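/-
Small elements (of order dividing `p`, or 4 when `p = 2`) and normality of `S` in a fusion system.
-/
import Cfsg.Agent.Lib.Fusion87.Normal
import Cfsg.Agent.Lib.PGroup.Critical
import Cfsg.Agent.Lib.CoprimeOmega.Basic

set_option autoImplicit false

namespace Cfsg.Agent.Lib.Fusion87

open Cfsg Cfsg.FusionSystem Cfsg.Agent.Lib.Fusion
open scoped commutatorElement

/-- An element of order dividing `p`, or dividing 4 when `p = 2`. -/
def IsSmall {G : Type*} [Group G] (p : ℕ) (x : G) : Prop := x ^ p = 1 ∨ (p = 2 ∧ x ^ 4 = 1)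

theorem isSmall_map {G H : Type*} [Group G] [Group H] {p : ℕ} (f : G →* H) {x : G}
    (h : IsSmall p x) : IsSmall p (f x) := by
  rcases h with h | ⟨h2, h⟩
  · exact Or.inl (by rw [← map_pow, h, map_one])
  · exact Or.inr ⟨h2, by rw [← map_pow, h, map_one]⟩

theorem isSmall_pow_iff {G : Type*} [Group G] {p : ℕ} {x : G} :
    IsSmall p x ↔ x ^ (if p = 2 then 4 else p) = 1 := by
  rw [IsSmall]
  split_ifs with h
  · subst h
    refine ⟨?_, fun h => Or.inr ⟨rfl, h⟩⟩
    rintro (h | ⟨-, h⟩)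
    · rw [show (4 : ℕ) = 2 * 2 from rfl, pow_mul, h, one_pow]
    · exact h
  · exact ⟨fun h' => h'.resolve_right fun h'' => h h''.1, Or.inl⟩

/-- Every finite `p`-group has a characteristic subgroup consisting of small elements on which
automorphisms of order prime to `p` act faithfully; its commutators with the group are central
in it. -/
theorem exists_small_characteristic_central {G : Type*} [Group G] [Finite G] {p : ℕ}
    [Fact p.Prime] (hG : IsPGroup p G) :
    ∃ C : Subgroup G, C.Characteristic ∧ (∀ x ∈ C, IsSmall p x) ∧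
      (∀ x ∈ C, ∀ g : G, ∀ d ∈ C, Commute (g * x * g⁻¹ * x⁻¹) d) ∧
      ∀ a : MulAut G, (orderOf a).Coprime p → (∀ x ∈ C, a x = x) → a = 1 := by
  obtain ⟨D, hD⟩ := Critical.exists_critical hG
  set q : ℕ := if p = 2 then 4 else p with hq
  have hpq : p ∣ q := by
    rw [hq]; split_ifs with h
    · subst h; norm_num
    · rfl
  have hchoose : p ∣ q.choose 2 := by
    rw [hq]; split_ifs with h
    · subst h; decide
    · exact (Fact.out : p.Prime).dvd_choose_self (by norm_num)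
        (lt_of_le_of_ne (Fact.out : p.Prime).two_le (Ne.symm h))
  have hcomm : ∀ d ∈ D, ∀ e ∈ D ⊓ Subgroup.centralizer (D : Set G), d * e = e * d :=
    fun d hd e he => Subgroup.mem_centralizer_iff.1 he.2 d hd
  have hmul : ∀ x ∈ D, ∀ z ∈ D, (x * z) ^ q = x ^ q * z ^ q := by
    intro x hx z hz
    set c := z⁻¹ * x⁻¹ * z * x with hc
    have hcZ : c ∈ D ⊓ Subgroup.centralizer (D : Set G) := by
      refine hD.comm_le ?_
      have := Subgroup.commutator_mem_commutator (D.inv_mem hz) (Subgroup.mem_top x⁻¹)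
      simpa [commutatorElement_def, hc] using this
    have hczx : z * x = x * z * c := by rw [hc]; group
    have hcx : c * x = x * c := (hcomm x hx c hcZ).symm
    have hcz : c * z = z * c := (hcomm z hz c hcZ).symm
    have hcp : c ^ p = 1 := by
      have h1 : x⁻¹ * z * x = z * c := by rw [hc]; group
      have h2 : x⁻¹ * z ^ p * x = z ^ p * c ^ p := by
        rw [← (show Commute z c from hcz.symm).mul_pow, ← h1]
        simpa using (conj_pow (a := x⁻¹) (b := z) (i := p)).symm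
      rw [mul_assoc, ← hcomm x hx _ (hD.pow_mem z hz), inv_mul_cancel_left] at h2
      exact mul_eq_left.1 h2.symm
    obtain ⟨k, hk⟩ := hchoose
    rw [CoprimeOmega.mul_pow_of_commute hczx hcx hcz, hk, pow_mul, hcp, one_pow, mul_one]
  let C : Subgroup G :=
    { carrier := {x | x ∈ D ∧ x ^ q = 1}
      one_mem' := ⟨D.one_mem, one_pow _⟩
      mul_mem' := fun {x y} hx hy => ⟨D.mul_mem hx.1 hy.1, by
        rw [hmul x hx.1 y hy.1, hx.2, hy.2, one_mul]⟩
      inv_mem' := fun {x} hx => ⟨D.inv_mem hx.1, by rw [inv_pow, hx.2, inv_one]⟩ }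
  refine ⟨C, ?_, fun x hx => isSmall_pow_iff.2 hx.2, fun x hx g d hd => ?_, fun a ha hfix => ?_⟩
  rotate_left
  · have h := Subgroup.commutator_mem_commutator hx.1 (Subgroup.mem_top g)
    have h2 := hcomm d hd.1 _ (Subgroup.inv_mem _ (hD.comm_le h))
    rw [show g * x * g⁻¹ * x⁻¹ = ⁅x, g⁆⁻¹ by rw [commutatorElement_def]; group]
    exact h2.symm
  rotate_left
  · have hDc := hD.char
    refine Subgroup.characteristic_iff_le_comap.2 fun φ x hx => ⟨?_, ?_⟩
    · exact Subgroup.characteristic_iff_le_comap.1 hDc φ hx.1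
    · show (φ x) ^ q = 1
      rw [← map_pow, hx.2, map_one]
  have haD : ∀ x ∈ D, a x ∈ D := fun x hx => Subgroup.characteristic_iff_le_comap.1 hD.char a hx
  -- `a` fixes the centre of `D`
  have hZ : ∀ k : ℕ, ∀ x ∈ D ⊓ Subgroup.centralizer (D : Set G), x ^ p ^ k = 1 → a x = x := by
    intro k
    induction k with
    | zero =>
      intro x _ hx
      rw [pow_zero, pow_one] at hx
      rw [hx, map_one]
    | succ k ih =>
      intro x hx hxk
      have h1 : a (x ^ p) = x ^ p :=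
        ih _ (pow_mem hx p) (by rw [← pow_mul, mul_comm p, ← pow_succ, hxk])
      have hc : Commute x⁻¹ (a x) := Commute.inv_left (hcomm (a x) (haD x hx.1) x hx).symm
      have h2 : (x⁻¹ * a x) ^ p = 1 := by
        rw [hc.mul_pow, inv_pow, ← map_pow, h1, inv_mul_cancel]
      refine fix_of_step a ha x (hfix _ ⟨D.mul_mem (D.inv_mem hx.1) (haD x hx.1), ?_⟩) (hG _)
      obtain ⟨m, hm⟩ := hpq
      rw [hm, pow_mul, h2, one_pow]
  have hD' : ∀ x ∈ D, a x = x := by
    intro x hx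
    have hz : x⁻¹ * a x ∈ D := D.mul_mem (D.inv_mem hx) (haD x hx)
    refine fix_of_step a ha x (hfix _ ⟨hz, ?_⟩) (hG _)
    obtain ⟨m, hm⟩ := hpq
    have hxZ : x ^ q ∈ D ⊓ Subgroup.centralizer (D : Set G) := by
      rw [hm, pow_mul]; exact pow_mem (hD.pow_mem x hx) m
    obtain ⟨k, hk⟩ := hG (x ^ q)
    have h := hmul x hx _ hz
    rw [mul_inv_cancel_left, ← map_pow, hZ k _ hxZ hk] at h
    exact mul_eq_left.1 h.symm
  refine MulEquiv.ext fun g => fix_of_step a ha g (hD' _ (hD.centralizer_le ?_)) (hG _)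
  refine Subgroup.mem_centralizer_iff.2 fun d hd => ?_
  have hn : D.Normal := by haveI := hD.char; infer_instance
  have h1 : a (g * d * g⁻¹) = g * d * g⁻¹ := hD' _ (hn.conj_mem d hd g)
  rw [map_mul, map_mul, map_inv, hD' d hd] at h1
  calc d * (g⁻¹ * a g) = g⁻¹ * (g * d * g⁻¹) * a g := by group
    _ = g⁻¹ * a g * d := by rw [← h1]; group

/-- Every finite `p`-group has a characteristic subgroup consisting of small elements on which
automorphisms of order prime to `p` act faithfully. -/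
theorem exists_small_characteristic {G : Type*} [Group G] [Finite G] {p : ℕ} [Fact p.Prime]
    (hG : IsPGroup p G) : ∃ C : Subgroup G, C.Characteristic ∧ (∀ x ∈ C, IsSmall p x) ∧
      ∀ a : MulAut G, (orderOf a).Coprime p → (∀ x ∈ C, a x = x) → a = 1 :=
  let ⟨C, hC, hs, _, hf⟩ := exists_small_characteristic_central hG
  ⟨C, hC, hs, hf⟩

variable {Ω : Type*} [Group Ω] {S : Subgroup Ω} {F : FusionSystem S} {p : ℕ}

/-- An automorphism of order prime to `p` stabilising a series on the small elements of a strongly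
closed subgroup containing its commutators is trivial. -/
theorem eq_one_of_small_series [Fact p.Prime] [Finite S] (hS : IsPGroup p S) {R H : Subgroup Ω}
    (hR : R ≤ S) (hH : F.StronglyClosed H) (c : ℕ → Subgroup Ω) {n : ℕ} (h0 : c 0 = ⊥)
    (hn : ∀ x ∈ H, IsSmall p x → x ∈ c n) (hnorm : ∀ i, S ≤ Subgroup.normalizer (c i : Set Ω))
    {a : MulAut R} (ha : a ∈ F.autGroup R) (hcop : (orderOf a).Coprime p)
    (hres : ∀ x : R, (x : Ω)⁻¹ * (a x : Ω) ∈ H)
    {C : Subgroup R} (hC : C.Characteristic) (hCsmall : ∀ x ∈ C, IsSmall p x)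
    (hCfaith : (∀ x ∈ C, a x = x) → a = 1)
    (hlev : ∀ i < n, ∀ x : R, x ∈ C → (x : Ω) ∈ H → (x : Ω) ∈ c (i + 1) →
      (a x : Ω) * (x : Ω)⁻¹ ∈ c i) : a = 1 := by
  have hp : ∀ z : R, ∃ k, z ^ p ^ k = 1 := fun z => (hS.to_le hR) z
  have hCa : ∀ x ∈ C, a x ∈ C := fun x hx => Subgroup.characteristic_iff_le_comap.1 hC a hx
  have hfix : ∀ i ≤ n, ∀ x ∈ C, (x : Ω) ∈ H → (x : Ω) ∈ c i → a x = x := by
    intro i
    induction i with
    | zero =>
      intro _ x _ _ hx
      rw [h0, Subgroup.mem_bot] at hx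
      rw [show x = 1 from Subtype.ext hx, map_one]
    | succ i ih =>
      intro hi x hxC hxH hx
      refine fix_of_step a hcop x
        (ih (by omega) _ (C.mul_mem (C.inv_mem hxC) (hCa x hxC)) (hres x) ?_) (hp _)
      refine (Subgroup.mem_normalizer_iff.1 (hnorm i (hR x.2)) _).2 ?_
      show (x : Ω) * ((x : Ω)⁻¹ * (a x : Ω)) * (x : Ω)⁻¹ ∈ c i
      rw [mul_inv_cancel_left]
      exact hlev i (by omega) x hxC hxH hx
  refine hCfaith fun x hx => ?_
  have hz := C.mul_mem (C.inv_mem hx) (hCa x hx)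
  exact fix_of_step a hcop x
    (hfix n le_rfl _ hz (hres x) (hn _ (hres x) (isSmall_map R.subtype (hCsmall _ hz)))) (hp _)

/-- `S` is normal if the maps respect a central series on the small elements of a suitable
strongly closed subgroup. -/
theorem isNormal_top_of_small [Fact p.Prime] [Finite S] (hS : IsPGroup p S) (hF : F.IsSaturated p)
    {H : Subgroup Ω} (hH : F.StronglyClosed H)
    (hres : ∀ R : Subgroup Ω, R ≤ S → ∀ a ∈ F.autGroup R, (orderOf a).Coprime p →
      ∀ x : R, (x : Ω)⁻¹ * (a x : Ω) ∈ H)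
    (c : ℕ → Subgroup Ω) {n : ℕ} (h0 : c 0 = ⊥)
    (hn : ∀ x ∈ H, IsSmall p x → x ∈ c n) (hnorm : ∀ i, S ≤ Subgroup.normalizer (c i : Set Ω))
    (hcent : ∀ i < n, ∀ x ∈ H, IsSmall p x → x ∈ c (i + 1) → ∀ q ∈ S, q * x * q⁻¹ * x⁻¹ ∈ c i)
    (hstab : ∀ (P : Subgroup Ω) (φ : P →* Ω), φ ∈ F.Hom P → ∀ x : P, IsSmall p (x : Ω) →
      (x : Ω) ∈ H → ∀ i, (x : Ω) ∈ c i → φ x ∈ c i) : F.IsNormal S := by
  have hSsc : F.StronglyClosed S := ⟨le_rfl, fun R _ φ hφ x => val_mem hφ x⟩
  refine isNormal_of_le_centric_radical hS hF hSsc fun R hR hRc hRr => ?_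
  have hRS := hR.1
  haveI := finite_mulAut (S := S) hRS
  haveI : Finite R := finite_of_le hRS
  obtain ⟨C, hC, hCsmall, hCfaith⟩ := exists_small_characteristic (hS.to_le hRS)
  have hCb : ∀ b : MulAut R, ∀ x ∈ C, b x ∈ C :=
    fun b x hx => Subgroup.characteristic_iff_le_comap.1 hC b hx
  have hHb : ∀ b ∈ F.autGroup R, ∀ x : R, (x : Ω) ∈ H → ((b x : R) : Ω) ∈ H :=
    fun b hb x hx => stronglyClosed_apply hH (autGroup_hom_mem hRS hb) x hx
  have hcb : ∀ b ∈ F.autGroup R, ∀ x ∈ C, (x : Ω) ∈ H → ∀ i, (x : Ω) ∈ c i →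
      ((b x : R) : Ω) ∈ c i := fun b hb x hx hxH =>
    hstab R _ (autGroup_hom_mem hRS hb) x (isSmall_map R.subtype (hCsmall x hx)) hxH
  let K : Subgroup (F.autGroup R) :=
    { carrier := {a | ∀ i < n, ∀ x : R, x ∈ C → (x : Ω) ∈ H → (x : Ω) ∈ c (i + 1) →
        ((a : MulAut R) x : Ω) * (x : Ω)⁻¹ ∈ c i}
      one_mem' := fun i _ x _ _ _ => by simp
      mul_mem' := by
        rintro a b ha hb i hi x hxC hxH hx
        have := (c i).mul_mem (ha i hi _ (hCb _ x hxC) (hHb _ b.2 x hxH) (hcb _ b.2 x hxC hxH _ hx))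
          (hb i hi x hxC hxH hx)
        simpa [mul_assoc] using this
      inv_mem' := by
        rintro a ha i hi x hxC hxH hx
        have h := (c i).inv_mem (ha i hi _ (hCb _ x hxC) (hHb _ (a⁻¹).2 x hxH)
          (hcb _ (a⁻¹).2 x hxC hxH _ hx))
        rw [mul_inv_rev, inv_inv, InvMemClass.coe_inv, MulAut.apply_inv_self] at h
        exact h }
  haveI : K.Normal := by
    refine ⟨?_⟩
    rintro a ha b i hi x hxC hxH hx
    set y := ((b : MulAut R)⁻¹) x with hy
    have hyC : y ∈ C := hCb _ x hxC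
    have hyH : (y : Ω) ∈ H := hHb _ (b⁻¹).2 x hxH
    have h1 := ha i hi y hyC hyH (hcb _ (b⁻¹).2 x hxC hxH _ hx)
    have h := hcb _ b.2 ((a : MulAut R) y * y⁻¹) (C.mul_mem (hCb _ y hyC) (C.inv_mem hyC))
      (H.mul_mem (hHb _ a.2 y hyH) (H.inv_mem hyH)) i h1
    rw [map_mul, map_inv, hy, MulAut.apply_inv_self] at h
    exact h
  have hKp : IsPGroup p K := by
    refine isPGroup_of_coprime_trivial fun a ha => ?_
    obtain ⟨⟨a, haK⟩, rfl⟩ : ∃ a' : K, a' = a := ⟨a, rfl⟩
    rw [← Subgroup.orderOf_coe, ← Subgroup.orderOf_coe] at ha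
    exact Subtype.ext (Subtype.ext (eq_one_of_small_series hS hRS hH c h0 hn hnorm a.2 ha
      (hres R hRS _ a.2 ha) hC hCsmall (hCfaith _ ha) haK))
  refine le_of_normalizerIn_le hS hRS le_rfl (stronglyClosed_le_normalizer' hSsc) fun g hg hgN => ?_
  refine mem_of_radical hRc hRr K hKp hg hgN fun a ha i hi x hxC hxH hx => ?_
  rw [ha, conjAut_apply]
  exact hcent i hi _ hxH (isSmall_map R.subtype (hCsmall x hxC)) hx g hg

/-- The maps of order prime to `p` stabilising the series on `S` are trivial. -/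
theorem isPGroup_autGroup_top_of_small [Fact p.Prime] [Finite S] (hS : IsPGroup p S)
    {H : Subgroup Ω} (hH : F.StronglyClosed H)
    (hres : ∀ a ∈ F.autGroup S, (orderOf a).Coprime p → ∀ x : S, (x : Ω)⁻¹ * (a x : Ω) ∈ H)
    (c : ℕ → Subgroup Ω) {n : ℕ} (h0 : c 0 = ⊥)
    (hn : ∀ x ∈ H, IsSmall p x → x ∈ c n) (hnorm : ∀ i, S ≤ Subgroup.normalizer (c i : Set Ω))
    (hlev : ∀ a ∈ F.autGroup S, ∀ i < n, ∀ x : S, IsSmall p (x : Ω) → (x : Ω) ∈ H →
      (x : Ω) ∈ c (i + 1) → (a x : Ω) * (x : Ω)⁻¹ ∈ c i) : IsPGroup p (F.autGroup S) := by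
  haveI := finite_mulAut (S := S) (le_refl S)
  obtain ⟨C, hC, hCsmall, hCfaith⟩ := exists_small_characteristic hS
  refine isPGroup_of_coprime_trivial fun a ha => ?_
  rw [← Subgroup.orderOf_coe] at ha
  exact Subtype.ext (eq_one_of_small_series hS le_rfl hH c h0 hn hnorm a.2 ha (hres _ a.2 ha) hC
    hCsmall (hCfaith _ ha) fun i hi x hx => hlev _ a.2 i hi x (isSmall_map S.subtype (hCsmall x hx)))

end Cfsg.Agent.Lib.Fusion87
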