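import Cfsg.Agent.Lib.Fusion.SLData
import Cfsg.Agent.Lib.Fusion87.TransitiveCommutation

/-!
Commutation in the unitriangular subgroup of `SL₃`.
-/

set_option autoImplicit false

namespace Cfsg.Agent.Lib.Fusion87

open Cfsg Cfsg.Agent.Lib.Fusion.SLData Cfsg.Agent.Lib.PSLAut
open scoped commutatorElement

/-- Class two, commutator maps onto the centre and transitive commutation, for an abstract group. -/
def TransGroup (G : Type*) [Group G] : Prop :=
  (∀ a b : G, ⁅a, b⁆ ∈ Subgroup.center G) ∧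
    (∀ x : G, x ∉ Subgroup.center G → ∀ z ∈ Subgroup.center G, ∃ s : G, ⁅s, x⁆ = z) ∧
    ∀ x : G, x ∉ Subgroup.center G → ∀ a b : G, x * a = a * x → x * b = b * x → a * b = b * a

theorem TransGroup.of_equiv {G H : Type*} [Group G] [Group H] (e : G ≃* H) (h : TransGroup H) :
    TransGroup G := by
  have hc : ∀ x, x ∈ Subgroup.center G ↔ e x ∈ Subgroup.center H := fun x => by
    simp only [Subgroup.mem_center_iff]
    refine ⟨fun hx g => ?_, fun hx g => e.injective (by rw [map_mul, map_mul]; exact hx _)⟩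
    obtain ⟨g, rfl⟩ := e.surjective g
    rw [← map_mul, hx, map_mul]
  refine ⟨fun a b => (hc _).2 (by rw [map_commutatorElement]; exact h.1 _ _), fun x hx z hz => ?_,
    fun x hx a b ha hb => e.injective ?_⟩
  · obtain ⟨s, hs⟩ := h.2.1 (e x) (fun h => hx ((hc x).2 h)) (e z) ((hc z).1 hz)
    exact ⟨e.symm s, e.injective (by rw [map_commutatorElement, e.apply_symm_apply, hs])⟩
  · rw [map_mul, map_mul]
    exact h.2.2 (e x) (fun h => hx ((hc x).2 h)) _ _ (by rw [← map_mul, ha, map_mul])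
      (by rw [← map_mul, hb, map_mul])

theorem transComm_of_transGroup {Ω : Type*} [Group Ω] {S : Subgroup Ω} (h : TransGroup S) :
    TransComm S ((Subgroup.center S).map S.subtype) where
  le := Subgroup.map_subtype_le _
  central := by
    rintro _ ⟨z, hz, rfl⟩ s hs
    exact (congrArg Subtype.val (Subgroup.mem_center_iff.1 hz ⟨s, hs⟩)).symm
  mem_of_central z hz hc :=
    ⟨⟨z, hz⟩, Subgroup.mem_center_iff.2 fun g => Subtype.ext (hc g g.2).symm, rfl⟩
  comm_mem a ha b hb :=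
    ⟨⁅(⟨a, ha⟩ : S), (⟨b, hb⟩ : S)⁆, h.1 _ _, map_commutatorElement S.subtype _ _⟩
  onto x hx hxZ := by
    rintro _ ⟨z, hz, rfl⟩
    obtain ⟨s, hs⟩ := h.2.1 ⟨x, hx⟩ (fun h' => hxZ ⟨_, h', rfl⟩) z hz
    refine ⟨s, s.2, ?_⟩
    rw [← hs]
    exact (map_commutatorElement S.subtype s ⟨x, hx⟩).symm
  trans x hx hxZ a ha b hb hxa hxb := congrArg Subtype.val
    (h.2.2 ⟨x, hx⟩ (fun h' => hxZ ⟨_, h', rfl⟩) ⟨a, ha⟩ ⟨b, hb⟩ (Subtype.ext hxa) (Subtype.ext hxb))

section Unitriangular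

variable {F : Type*} [Field F] [Fintype F]

/-- An entry of a unitriangular matrix. -/
def ent (s : uniSL 3 F) (i j : Fin 3) : F := (s : SLn 3 F).1 i j

theorem ent_mul (s t : uniSL 3 F) :
    ent (s * t) 0 1 = ent s 0 1 + ent t 0 1 ∧ ent (s * t) 1 2 = ent s 1 2 + ent t 1 2 ∧
      ent (s * t) 0 2 = ent s 0 2 + ent t 0 2 + ent s 0 1 * ent t 1 2 := by
  have hs := fun a => uni_diag s.2 a
  have ht := fun a => uni_diag t.2 a
  have hs' := fun {a b : Fin 3} (h : b < a) => uni_low s.2 h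
  have ht' := fun {a b : Fin 3} (h : b < a) => uni_low t.2 h
  refine ⟨?_, ?_, ?_⟩ <;>
    simp only [ent, Subgroup.coe_mul, Matrix.SpecialLinearGroup.coe_mul, Matrix.mul_apply,
      Fin.sum_univ_three, hs, ht, hs' (show (0 : Fin 3) < 1 by decide),
      hs' (show (0 : Fin 3) < 2 by decide), hs' (show (1 : Fin 3) < 2 by decide),
      ht' (show (0 : Fin 3) < 1 by decide), ht' (show (0 : Fin 3) < 2 by decide),
      ht' (show (1 : Fin 3) < 2 by decide)] <;> ring

theorem ent_ext {s t : uniSL 3 F} (h1 : ent s 0 1 = ent t 0 1) (h2 : ent s 1 2 = ent t 1 2)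
    (h3 : ent s 0 2 = ent t 0 2) : s = t := by
  refine Subtype.ext (Subtype.ext (Matrix.ext fun i j => ?_))
  rcases lt_trichotomy i j with h | h | h
  · fin_cases i <;> fin_cases j <;> first | exact h1 | exact h2 | exact h3 | exact absurd h (by decide)
  · subst h; exact (uni_diag s.2 i).trans (uni_diag t.2 i).symm
  · exact (uni_low s.2 h).trans (uni_low t.2 h).symm

theorem exists_ent (a b c : F) : ∃ s : uniSL 3 F, ent s 0 1 = a ∧ ent s 1 2 = b ∧ ent s 0 2 = c := by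
  let M : Matrix (Fin 3) (Fin 3) F := !![1, a, c; 0, 1, b; 0, 0, 1]
  have hd : M.det = 1 := by simp [M, Matrix.det_fin_three]
  refine ⟨⟨⟨M, hd⟩, mem_uniSL.2 ⟨fun i => ?_, fun i j h => ?_⟩⟩, ?_, ?_, ?_⟩
  · fin_cases i <;> simp [M]
  · fin_cases i <;> fin_cases j <;> first | exact absurd h (by decide) | simp [M]
  all_goals simp [ent, M]

theorem commute_iff (s t : uniSL 3 F) :
    s * t = t * s ↔ ent s 0 1 * ent t 1 2 = ent t 0 1 * ent s 1 2 := by
  obtain ⟨a1, a2, a3⟩ := ent_mul s t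
  obtain ⟨b1, b2, b3⟩ := ent_mul t s
  refine ⟨fun h => ?_, fun h => ent_ext ?_ ?_ ?_⟩
  · rw [h, b3] at a3
    linear_combination -a3
  · rw [a1, b1, add_comm]
  · rw [a2, b2, add_comm]
  · rw [a3, b3, h]; ring

theorem mem_center_iff' (s : uniSL 3 F) :
    s ∈ Subgroup.center (uniSL 3 F) ↔ ent s 0 1 = 0 ∧ ent s 1 2 = 0 := by
  rw [Subgroup.mem_center_iff]
  refine ⟨fun h => ?_, fun h g => (commute_iff g s).2 (by rw [h.1, h.2]; ring)⟩
  obtain ⟨g, g1, g2, -⟩ := exists_ent (F := F) 1 0 0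
  obtain ⟨g', g1', g2', -⟩ := exists_ent (F := F) 0 1 0
  have h1 := (commute_iff g s).1 (h g)
  have h2 := (commute_iff g' s).1 (h g')
  rw [g1, g2, one_mul, mul_zero] at h1
  rw [g1', g2', zero_mul, mul_one] at h2
  exact ⟨h2.symm, h1⟩

theorem transGroup_uniSL : TransGroup (uniSL 3 F) := by
  have hmul : ∀ a b c : uniSL 3 F, c = ⁅a, b⁆ →
      ent c 0 1 = 0 ∧ ent c 1 2 = 0 ∧
        ent c 0 2 = ent a 0 1 * ent b 1 2 - ent b 0 1 * ent a 1 2 := by
    intro a b c hc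
    have h : c * (b * a) = a * b := by rw [hc, commutatorElement_def]; group
    obtain ⟨p1, p2, p3⟩ := ent_mul c (b * a)
    obtain ⟨q1, q2, q3⟩ := ent_mul a b
    obtain ⟨r1, r2, r3⟩ := ent_mul b a
    rw [h] at p1 p2 p3
    have z1 : ent c 0 1 = 0 := by linear_combination q1 - p1 - r1
    refine ⟨z1, by linear_combination q2 - p2 - r2, ?_⟩
    rw [z1] at p3
    linear_combination q3 - p3 - r3
  refine ⟨fun a b => (mem_center_iff' _).2 ⟨(hmul a b _ rfl).1, (hmul a b _ rfl).2.1⟩,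
    fun x hx z hz => ?_, fun x hx a b ha hb => ?_⟩
  · rw [mem_center_iff'] at hx hz
    obtain ⟨u, v, huv⟩ : ∃ u v : F, u * ent x 1 2 - ent x 0 1 * v = ent z 0 2 := by
      by_cases hb : ent x 1 2 = 0
      · have ha : ent x 0 1 ≠ 0 := fun h => hx ⟨h, hb⟩
        exact ⟨0, -ent z 0 2 / ent x 0 1, by field_simp; ring⟩
      · exact ⟨ent z 0 2 / ent x 1 2, 0, by field_simp; ring⟩
    obtain ⟨s, s1, s2, -⟩ := exists_ent (F := F) u v 0
    obtain ⟨c1, c2, c3⟩ := hmul s x _ rfl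
    refine ⟨s, ent_ext (c1.trans hz.1.symm) (c2.trans hz.2.symm) ?_⟩
    rw [c3, s1, s2, huv]
  · rw [mem_center_iff'] at hx
    rw [commute_iff] at ha hb ⊢
    by_cases hb0 : ent x 1 2 = 0
    · have ha0 : ent x 0 1 ≠ 0 := fun h => hx ⟨h, hb0⟩
      apply mul_left_cancel₀ ha0
      linear_combination ent a 0 1 * hb - ent b 0 1 * ha
    · apply mul_left_cancel₀ hb0
      linear_combination ent a 1 2 * hb - ent b 1 2 * ha

end Unitriangular

end Cfsg.Agent.Lib.Fusion87
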